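import Cfsg.Agent.Lib.SmallGroups.Order5616.Chars
import Cfsg.Agent.Lib.SmallGroups.Order5616.Unique
import Cfsg.Agent.Lib.DegreeTools.SL2Degrees
import Cfsg.Agent.Lib.DegreeTools.PDegree
import Cfsg.Agent.Lib.Char.SymSmallChars
import Cfsg.Agent.Lib.Classical.SLBasic
import Cfsg.Agent.Lib.Perm.ZGroup.Simple
import Cfsg.Agent.S4774
import Cfsg.Agent.S4812
import Cfsg.Agent.S0494
import Cfsg.Agent.S0495
import Cfsg.Agent.S0497
import Cfsg.Agent.S0498
import Cfsg.Agent.S1011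
import Cfsg.Agent.S1020
import Cfsg.Agent.S1021
import Cfsg.Agent.S0984
import Cfsg.Agent.S0981

/-!
# The non-abelian simple groups of order below 6000: uniqueness and degree graphs
-/

set_option autoImplicit false

namespace CfsgLib.SmallGroups.DegreeGraphSmall

open Cfsg

/-- The orders of the non-abelian simple groups below `6000`. -/
def orders : List ℕ := [60, 168, 360, 504, 660, 1092, 2448, 2520, 3420, 4080, 5616]

/-- A simple group is determined by its order below `6000`. -/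
theorem unique {G H : Type*} [Group G] [Finite G] [IsSimpleGroup G] [Group H] [Finite H] [IsSimpleGroup H]
    (hc : Nat.card H = Nat.card G) (hn : Nat.card G ∈ orders) : Nonempty (G ≃* H) := by
  simp only [orders, List.mem_cons, List.not_mem_nil, or_false] at hn
  rcases hn with h | h | h | h | h | h | h | h | h | h | h <;> have h' := hc.trans h
  · obtain ⟨a⟩ := Cfsg.Agent.S0494.result h
    obtain ⟨b⟩ := Cfsg.Agent.S0494.result h'
    exact ⟨a.trans b.symm⟩
  · haveI : Fact (Nat.Prime 7) := ⟨by norm_num⟩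
    obtain ⟨a⟩ := Cfsg.Agent.S0495.result h (F := ZMod 7) (ZMod.card 7)
    obtain ⟨b⟩ := Cfsg.Agent.S0495.result h' (F := ZMod 7) (ZMod.card 7)
    exact ⟨a.trans b.symm⟩
  · obtain ⟨a⟩ := Cfsg.Agent.S0497.result h
    obtain ⟨b⟩ := Cfsg.Agent.S0497.result h'
    exact ⟨a.trans b.symm⟩
  · letI : Fintype (GaloisField 2 3) := Fintype.ofFinite _
    have hF : Fintype.card (GaloisField 2 3) = 8 := by
      rw [← Nat.card_eq_fintype_card, GaloisField.card 2 3 (by norm_num)]; norm_num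
    obtain ⟨a⟩ := Cfsg.Agent.S1011.result h hF
    obtain ⟨b⟩ := Cfsg.Agent.S1011.result h' hF
    exact ⟨a.trans b.symm⟩
  · haveI : Fact (Nat.Prime 11) := ⟨by norm_num⟩
    obtain ⟨a⟩ := Cfsg.Agent.S0498.result 11 (Or.inl rfl) (by rw [h]; norm_num) (F := ZMod 11) (ZMod.card 11)
    obtain ⟨b⟩ := Cfsg.Agent.S0498.result 11 (Or.inl rfl) (by rw [h']; norm_num) (F := ZMod 11) (ZMod.card 11)
    exact ⟨a.trans b.symm⟩
  · haveI : Fact (Nat.Prime 13) := ⟨by norm_num⟩
    obtain ⟨a⟩ := Cfsg.Agent.S0498.result 13 (Or.inr rfl) (by rw [h]; norm_num) (F := ZMod 13) (ZMod.card 13)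
    obtain ⟨b⟩ := Cfsg.Agent.S0498.result 13 (Or.inr rfl) (by rw [h']; norm_num) (F := ZMod 13) (ZMod.card 13)
    exact ⟨a.trans b.symm⟩
  · haveI : Fact (Nat.Prime 17) := ⟨by norm_num⟩
    obtain ⟨a⟩ := Cfsg.Agent.S1020.result h (F := ZMod 17) (ZMod.card 17)
    obtain ⟨b⟩ := Cfsg.Agent.S1020.result h' (F := ZMod 17) (ZMod.card 17)
    exact ⟨a.trans b.symm⟩
  · obtain ⟨a⟩ := Cfsg.Agent.S0984.result h
    obtain ⟨b⟩ := Cfsg.Agent.S0984.result h'
    exact ⟨a.trans b.symm⟩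
  · haveI : Fact (Nat.Prime 19) := ⟨by norm_num⟩
    obtain ⟨a⟩ := Cfsg.Agent.S1021.result h (F := ZMod 19) (ZMod.card 19)
    obtain ⟨b⟩ := Cfsg.Agent.S1021.result h' (F := ZMod 19) (ZMod.card 19)
    exact ⟨a.trans b.symm⟩
  · letI : Fintype (GaloisField 2 4) := Fintype.ofFinite _
    have hF : Fintype.card (GaloisField 2 4) = 16 := by
      rw [← Nat.card_eq_fintype_card, GaloisField.card 2 4 (by norm_num)]; norm_num
    obtain ⟨a⟩ := Cfsg.Agent.S0981.result h hF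
    obtain ⟨b⟩ := Cfsg.Agent.S0981.result h' hF
    exact ⟨a.trans b.symm⟩
  · exact Order5616.nonempty_mulEquiv h h'

/-- The primes used as vertices. -/
def vertices : ℕ → List ℕ
  | 60 => [5]
  | 168 => [2, 7]
  | 360 => [2, 3, 5]
  | 504 => [2, 7]
  | 660 => [11]
  | 1092 => [13]
  | 2448 => [17]
  | 2520 => [5, 7]
  | 3420 => [19]
  | 4080 => [17]
  | 5616 => [3, 13]
  | _ => []

variable {S : Type*} [Group S] [Finite S] [IsSimpleGroup S]

theorem psl_odd {F : Type} [Field F] [Fintype F] (t : ℕ) [Fact t.Prime] [CharP F t] (ht : t ≠ 2) {q : ℕ}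
    (hq : Fintype.card F = q) (h5 : 5 < q) (e : S ≃* Matrix.ProjectiveSpecialLinearGroup (Fin 2) F) :
    (∀ r : ℕ, r.Prime → r ∣ q * (q ^ 2 - 1) → r ∈ degreePrimes S) ∧
      ∀ r s : ℕ, (degreeGraph S).Adj r s ↔ (r ≠ s ∧ r.Prime ∧ s.Prime ∧ r ∣ q ^ 2 - 1 ∧ s ∣ q ^ 2 - 1 ∧
        (r = 2 ∨ s = 2 ∨ (r ∣ q + 1 ∧ s ∣ q + 1) ∨ (r ∣ q - 1 ∧ s ∣ q - 1))) := by
  obtain ⟨h1, h2⟩ := Cfsg.Agent.S4774.result F t ht q hq h5 (S := S) (Or.inl ⟨e⟩)
  exact ⟨fun r hr hd => h1 ▸ ⟨hr, hd⟩, h2⟩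

theorem psl_even {F : Type} [Field F] [Fintype F] [CharP F 2] {q : ℕ} (hq : Fintype.card F = q) (h4 : 4 ≤ q)
    (e : S ≃* Matrix.ProjectiveSpecialLinearGroup (Fin 2) F) :
    (∀ r : ℕ, r.Prime → r ∣ q * (q ^ 2 - 1) → r ∈ degreePrimes S) ∧
      ∀ r s : ℕ, (degreeGraph S).Adj r s ↔ (r ≠ s ∧ r.Prime ∧ s.Prime ∧
        ((r ∣ q + 1 ∧ s ∣ q + 1) ∨ (r ∣ q - 1 ∧ s ∣ q - 1))) := by
  obtain ⟨h1, h2⟩ := Cfsg.Agent.S4812.result F q hq h4 (S := S) (Or.inl ⟨e⟩)
  exact ⟨fun r hr hd => h1 ▸ ⟨hr, hd⟩, h2⟩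

theorem vertices_eight (h : Nat.card S = 504) :
    (2 ∈ degreePrimes S ∧ 7 ∈ degreePrimes S) ∧ ¬ (degreeGraph S).Adj 2 3 := by
  letI : Fintype (GaloisField 2 3) := Fintype.ofFinite _
  have hF : Fintype.card (GaloisField 2 3) = 8 := by
    rw [← Nat.card_eq_fintype_card, GaloisField.card 2 3 (by norm_num)]; norm_num
  obtain ⟨e⟩ := Cfsg.Agent.S1011.result h hF
  obtain ⟨h1, h2⟩ := psl_even hF (by norm_num) e
  exact ⟨⟨h1 2 Nat.prime_two (by norm_num), h1 7 (by norm_num) (by norm_num)⟩,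
    fun ha => by have := (h2 2 3).mp ha; norm_num at this⟩

theorem vertices_nine (h : Nat.card S = 360) :
    (∀ r ∈ [2, 3, 5], r ∈ degreePrimes S) ∧ ¬ (degreeGraph S).Adj 2 3 ∧ ¬ (degreeGraph S).Adj 3 5 ∧
      (degreeGraph S).Adj 2 5 := by
  letI : Fintype (GaloisField 3 2) := Fintype.ofFinite _
  have hF : Fintype.card (GaloisField 3 2) = 9 := by
    rw [← Nat.card_eq_fintype_card, GaloisField.card 3 2 (by norm_num)]; norm_num
  haveI : IsSimpleGroup (Matrix.ProjectiveSpecialLinearGroup (Fin 2) (GaloisField 3 2)) :=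
    CfsgLib.Classical.psl_fin_isSimpleGroup le_rfl fun _ => by rw [hF]; norm_num
  have hc : Nat.card (Matrix.ProjectiveSpecialLinearGroup (Fin 2) (GaloisField 3 2)) = 360 := by
    have := CfsgLib.Perm.ZGroup.card_psl2_gcd (F := GaloisField 3 2)
    rw [hF] at this
    norm_num at this
    omega
  obtain ⟨a⟩ := Cfsg.Agent.S0497.result h
  obtain ⟨b⟩ := Cfsg.Agent.S0497.result hc
  obtain ⟨h1, h2⟩ := psl_odd 3 (by norm_num) hF (by norm_num) (a.trans b.symm)
  refine ⟨fun r hr => ?_, fun ha => ?_, fun ha => ?_, (h2 2 5).mpr (by norm_num)⟩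
  · simp only [List.mem_cons, List.not_mem_nil, or_false] at hr
    rcases hr with rfl | rfl | rfl <;> exact h1 _ (by norm_num) (by norm_num)
  · have := (h2 2 3).mp ha; norm_num at this
  · have := (h2 3 5).mp ha; norm_num at this

theorem vertices_five (h : Nat.card S = 60) : 5 ∈ degreePrimes S := by
  letI : Fintype (GaloisField 2 2) := Fintype.ofFinite _
  have hF : Fintype.card (GaloisField 2 2) = 4 := by
    rw [← Nat.card_eq_fintype_card, GaloisField.card 2 2 (by norm_num)]; norm_num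
  haveI : IsSimpleGroup (Matrix.ProjectiveSpecialLinearGroup (Fin 2) (GaloisField 2 2)) :=
    CfsgLib.Classical.psl_fin_isSimpleGroup le_rfl fun _ => by rw [hF]
  have hc : Nat.card (Matrix.ProjectiveSpecialLinearGroup (Fin 2) (GaloisField 2 2)) = 60 := by
    have := CfsgLib.Perm.ZGroup.card_psl2_gcd (F := GaloisField 2 2)
    rw [hF] at this
    norm_num at this
    omega
  obtain ⟨a⟩ := Cfsg.Agent.S0494.result h
  obtain ⟨b⟩ := Cfsg.Agent.S0494.result hc
  exact (psl_even hF le_rfl (a.trans b.symm)).1 5 (by norm_num) (by norm_num)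

theorem vertices_sixteen (h : Nat.card S = 4080) : 17 ∈ degreePrimes S := by
  letI : Fintype (GaloisField 2 4) := Fintype.ofFinite _
  have hF : Fintype.card (GaloisField 2 4) = 16 := by
    rw [← Nat.card_eq_fintype_card, GaloisField.card 2 4 (by norm_num)]; norm_num
  obtain ⟨e⟩ := Cfsg.Agent.S0981.result h hF
  exact (psl_even hF (by norm_num) e).1 17 (by norm_num) (by norm_num)

theorem vertices_prime (q : ℕ) [Fact q.Prime] (h5 : 5 < q)
    (he : Nonempty (S ≃* Matrix.ProjectiveSpecialLinearGroup (Fin 2) (ZMod q))) :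
    q ∈ degreePrimes S ∧ 2 ∈ degreePrimes S := by
  obtain ⟨e⟩ := he
  have hq : q.Prime := Fact.out
  obtain ⟨h1, -⟩ := psl_odd q (by omega) (ZMod.card q) h5 e
  refine ⟨h1 q hq (dvd_mul_right q _), h1 2 Nat.prime_two (dvd_mul_of_dvd_right ?_ q)⟩
  obtain ⟨k, hk⟩ := hq.odd_of_ne_two (by omega)
  rw [hk, show (2 * k + 1) ^ 2 = 2 * (2 * (k * k + k)) + 1 by ring, Nat.add_sub_cancel]
  exact dvd_mul_right 2 _

open CfsgLib.Char.SymSmallChars in
theorem vertices_seven (h : Nat.card S = 2520) : 5 ∈ degreePrimes S ∧ 7 ∈ degreePrimes S := by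
  obtain ⟨e⟩ := Cfsg.Agent.S0984.result h
  obtain ⟨-, N2, N3⟩ := norm_eq_one (α := Fin 7) (by simp)
  have hid : fx (1 : Equiv.Perm (Fin 7)) = 7 ∧ fx2 (1 : Equiv.Perm (Fin 7)) = 7 := by simp [fx, fx2]
  have hsw : fx (Equiv.swap (0 : Fin 7) 1) = 5 ∧ fx2 (Equiv.swap (0 : Fin 7) 1) = 7 := by
    constructor
    · rw [fx, Nat.card_eq_fintype_card]; decide +kernel
    · simp [fx2]
  have hτ : Equiv.swap (0 : Fin 7) 1 ∉ alternatingGroup (Fin 7) := by
    rw [Equiv.Perm.mem_alternatingGroup, Equiv.Perm.sign_swap (by decide)]; decide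
  have key : ∀ (r : Equiv.Perm (Fin 7) → ℝ) (θ : Equiv.Perm (Fin 7) → ℂ) (d : ℕ), (∀ g, θ g = r g) →
      Cfsg.IsGeneralizedCharacter (Equiv.Perm (Fin 7)) θ →
      (∑ g, r g ^ 2 = (Fintype.card (Equiv.Perm (Fin 7)) : ℝ)) → r 1 = d → 0 < d →
      r (Equiv.swap (0 : Fin 7) 1) ≠ 0 → ∀ p : ℕ, p.Prime → p ∣ d → p ∈ degreePrimes S := by
    intro r θ d hθ hgen hnorm hr1 hd0 hτr p hp hpd
    obtain ⟨-, hA⟩ := restrict_irr r θ hθ hgen hnorm (by rw [hr1]; exact_mod_cast hd0) _ hτ hτr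
    obtain ⟨χ, hχ⟩ := CfsgLib.DegreeTools.SL2Degrees.exists_deg_equiv e
      (⟨_, hA⟩ : Cfsg.IrrCharacter (alternatingGroup (Fin 7)))
    refine ⟨hp, _, ⟨χ, rfl⟩, ?_⟩
    rw [hχ]
    convert hpd
    refine CfsgLib.DegreeTools.SL2Degrees.deg_eq_of_apply_one _ ?_
    show θ ((1 : alternatingGroup (Fin 7)) : Equiv.Perm (Fin 7)) = _
    rw [OneMemClass.coe_one, hθ, hr1]
    norm_num
  refine ⟨key _ hookChar 15 (fun g => by simp only [hookChar]; push_cast; rfl) isGeneralizedCharacter_hookChar N3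
      ?_ (by norm_num) ?_ 5 (by norm_num) (by norm_num),
    key _ pairChar 14 (fun g => by simp only [pairChar]; push_cast; rfl) isGeneralizedCharacter_pairChar N2
      ?_ (by norm_num) ?_ 7 (by norm_num) (by norm_num)⟩
  · rw [hid.1, hid.2]; norm_num
  · rw [hsw.1, hsw.2]; norm_num
  · rw [hid.1, hid.2]; norm_num
  · rw [hsw.1, hsw.2]; norm_num

open CfsgLib.Blocks in
theorem vertices_thirteen (h : Nat.card S = 5616) : 3 ∈ degreePrimes S ∧ 13 ∈ degreePrimes S := by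
  classical
  cases nonempty_fintype S
  haveI : Fact (Nat.Prime 13) := ⟨by norm_num⟩
  obtain ⟨D⟩ := Order5616.exists_chars (G := S) h
  refine ⟨⟨Nat.prime_three, _, ⟨D.χb, rfl⟩, by rw [D.db]; norm_num⟩, by norm_num, ?_⟩
  obtain ⟨χ, hχ⟩ : ∃ χ : IrrCharacter S, χ ∉ insert (trivChar S) (insert D.χa (insert D.χb D.Y)) := by
    by_contra hall
    push Not at hall
    have hs := CfsgLib.KGroups.M11Tools.sum_deg_sq (G := S)
    rw [← Finset.eq_univ_iff_forall.mpr hall, Finset.sum_insert, Finset.sum_insert, Finset.sum_insert,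
      Finset.sum_congr rfl (g := fun _ => 256) fun θ hθ => by rw [D.dY θ hθ]; norm_num,
      D.da, D.db, Finset.sum_const, D.cY, h] at hs
    · rw [show charDegree ((trivChar S : IrrCharacter S) : S → ℂ) = 1 by simp [charDegree]] at hs
      norm_num at hs
    · exact D.notMem.2.2
    · simp [D.hab, D.notMem.2.1]
    · simp [D.ha1.symm, D.hb1.symm, D.notMem.1]
  simp only [Finset.mem_insert, not_or] at hχ
  refine ⟨charDegree (χ : S → ℂ), ⟨χ, rfl⟩, ?_⟩
  by_contra hd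
  exact CfsgLib.DegreeTools.apply_ne_zero_of_not_dvd 13 χ hd D.u ⟨1, by rw [D.hu, pow_one]⟩
    (D.out χ hχ.1 hχ.2.1 hχ.2.2.1 hχ.2.2.2)

/-- The vertices. -/
theorem mem_degreePrimes : ∀ p ∈ vertices (Nat.card S), Nat.card S ∈ orders → p ∈ degreePrimes S := by
  intro p hp hn
  simp only [orders, List.mem_cons, List.not_mem_nil, or_false] at hn
  rcases hn with h | h | h | h | h | h | h | h | h | h | h <;> rw [h] at hp <;>
    simp only [vertices, List.mem_cons, List.not_mem_nil, or_false] at hp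
  · exact hp ▸ vertices_five h
  · haveI : Fact (Nat.Prime 7) := ⟨by norm_num⟩
    obtain ⟨h7, h2⟩ := vertices_prime (S := S) 7 (by norm_num) (Cfsg.Agent.S0495.result h (ZMod.card 7))
    rcases hp with rfl | rfl <;> assumption
  · exact (vertices_nine h).1 p (by simpa using hp)
  · obtain ⟨⟨h2, h7⟩, -⟩ := vertices_eight h
    rcases hp with rfl | rfl <;> assumption
  · haveI : Fact (Nat.Prime 11) := ⟨by norm_num⟩
    exact hp ▸ (vertices_prime (S := S) 11 (by norm_num)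
      (Cfsg.Agent.S0498.result 11 (Or.inl rfl) (by rw [h]; norm_num) (ZMod.card 11))).1
  · haveI : Fact (Nat.Prime 13) := ⟨by norm_num⟩
    exact hp ▸ (vertices_prime (S := S) 13 (by norm_num)
      (Cfsg.Agent.S0498.result 13 (Or.inr rfl) (by rw [h]; norm_num) (ZMod.card 13))).1
  · haveI : Fact (Nat.Prime 17) := ⟨by norm_num⟩
    exact hp ▸ (vertices_prime (S := S) 17 (by norm_num) (Cfsg.Agent.S1020.result h (ZMod.card 17))).1
  · obtain ⟨h5, h7⟩ := vertices_seven h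
    rcases hp with rfl | rfl <;> assumption
  · haveI : Fact (Nat.Prime 19) := ⟨by norm_num⟩
    exact hp ▸ (vertices_prime (S := S) 19 (by norm_num) (Cfsg.Agent.S1021.result h (ZMod.card 19))).1
  · exact hp ▸ vertices_sixteen h
  · obtain ⟨h3, h13⟩ := vertices_thirteen h
    rcases hp with rfl | rfl <;> assumption

end CfsgLib.SmallGroups.DegreeGraphSmall
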