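import Cfsg.Agent.Lib.SmallGroups.DegreeGraphSmall.Tools
import Cfsg.Agent.Lib.SmallGroups.DegreeGraphSmall.Facts
import Cfsg.Agent.Lib.CharDeep.ItoMichler
import Cfsg.Agent.S0887

/-!
# Non-simple groups of the orders 504, 660, 2520, 3420, 4080
-/

set_option autoImplicit false

namespace CfsgLib.SmallGroups.DegreeGraphSmall

open Subgroup CfsgLib.SmallGroups.SimpleTools CfsgLib.NT.SylowCount

variable {G : Type*} [Group G] [Finite G]

/-- A degree of a normal subgroup divides a degree of the group. -/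
theorem exists_deg_dvd (K : Subgroup G) [K.Normal] (θ : Cfsg.IrrCharacter K) :
    ∃ χ : Cfsg.IrrCharacter G, Cfsg.charDegree (θ : K → ℂ) ∣ Cfsg.charDegree (χ : G → ℂ) := by
  classical
  cases nonempty_fintype G
  obtain ⟨χ, hχ⟩ := CfsgLib.CharDeep.ItoMichler.exists_over K θ
  exact ⟨χ, (Cfsg.Agent.S0887.result K (χ : G → ℂ) χ.2 (θ : K → ℂ) θ.2 hχ _ _
    (CfsgLib.DegreeTools.deg_cast χ).symm (CfsgLib.DegreeTools.deg_cast θ).symm).1⟩

theorem exists_deg_inflate {K : Type*} [Group K] (R : Subgroup K) [R.Normal] (θ : Cfsg.IrrCharacter (K ⧸ R)) :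
    ∃ ψ : Cfsg.IrrCharacter K, Cfsg.charDegree (ψ : K → ℂ) = Cfsg.charDegree (θ : K ⧸ R → ℂ) :=
  ⟨⟨_, CfsgLib.Char.IsIrrCharacter.comp_surjective θ.2 (QuotientGroup.mk' R) (QuotientGroup.mk'_surjective R)⟩,
    by simp only [Cfsg.charDegree, Function.comp_apply, map_one]⟩

/-- The number of Sylow subgroups of prime order. -/
theorem sylow_data {p m : ℕ} [Fact p.Prime] (hcard : Nat.card G = p * m) (hm : ¬ p ∣ m)
    (hv : p ∈ Cfsg.degreePrimes G) :
    ∃ P : Sylow p G, Nat.card (P : Subgroup G) = p ∧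
      Nat.card (Sylow p G) * Nat.card (normalizer ((P : Subgroup G) : Set G)) = p * m ∧
      Nat.card (Sylow p G) ∈ (m.divisors.filter (fun n => n % p = 1)).erase 1 := by
  obtain ⟨P⟩ : Nonempty (Sylow p G) := inferInstance
  refine ⟨P, (SimpleTools.card_sylow_subgroup (k := 1) (by rw [pow_one]; exact hcard) hm P).trans (pow_one p),
    (card_normalizer_mul P).trans hcard, Finset.mem_erase.mpr ⟨card_sylow_ne_one_of_vertex hcard hm hv, ?_⟩⟩
  exact card_sylow_mem (G := G) (p := p) (k := 1) (m := m) (by rw [pow_one]; exact hcard)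
    (fun e => hm (e ▸ dvd_zero p))

variable (K : Subgroup G) [K.Normal] (R : Subgroup K) [R.Normal]

theorem index_eq {s r : ℕ} (hs : Nat.card (K ⧸ R) = s) (hr : Nat.card R = r) :
    R.index = s ∧ K.index * (s * r) = Nat.card G := by
  refine ⟨by rw [index_eq_card, hs], ?_⟩
  rw [← hs, ← hr, ← index_eq_card, R.index_mul_card, K.index_mul_card]

/-- The prime does not divide the radical. -/
theorem not_dvd_radical {p m s t : ℕ} [Fact p.Prime] (hcard : Nat.card G = p * m) (hm : ¬ p ∣ m)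
    (hv : p ∈ Cfsg.degreePrimes G) (hs : Nat.card (K ⧸ R) = s) (hsp : ¬ p ∣ s) (hts : s * t = p * m)
    (key : ∀ r ∈ t.divisors, p ∣ r → ¬ p ∣ r / p ∧ ∀ n ∈ (r / p).divisors, n % p = 1 → n = 1) :
    ¬ p ∣ Nat.card R ∧ Nat.card R ∣ t := by
  obtain ⟨hRi, hmul⟩ := index_eq K R hs rfl
  have hs0 : 0 < s := hs ▸ Nat.card_pos
  have hd : Nat.card R * K.index = t := by
    refine Nat.eq_of_mul_eq_mul_left hs0 ?_
    rw [hts, ← hcard, ← hmul]
    ring
  have hRd : Nat.card R ∣ t := ⟨_, hd.symm⟩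
  refine ⟨fun hp => ?_, hRd⟩
  have ht0 : t ≠ 0 := fun e => by
    rw [e, mul_zero] at hts
    exact Nat.card_pos.ne' (hcard.trans hts.symm)
  obtain ⟨hc, hkey⟩ := key _ (Nat.mem_divisors.mpr ⟨hRd, ht0⟩) hp
  have hKi : ¬ p ∣ K.index := by
    intro h
    obtain ⟨i, hi⟩ := h
    obtain ⟨c, hc'⟩ := hp
    rw [hi, hc'] at hd
    have : p * m = p * (p * (s * (c * i))) := by rw [← hts, ← hd]; ring
    exact hm ⟨_, Nat.eq_of_mul_eq_mul_left (Fact.out : p.Prime).pos this⟩
  exact card_sylow_ne_one_of_vertex hcard hm hv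
    (card_sylow_eq_one_of_radical K R hKi (hRi ▸ hsp) (Nat.mul_div_cancel' hp).symm hc hkey)

variable (hperf : commutator K = ⊤) [IsSimpleGroup (K ⧸ R)]
include hperf

omit [IsSimpleGroup (K ⧸ R)] hperf in
theorem card_eq {s : ℕ} (hs : Nat.card (K ⧸ R) = s) : Nat.card K = s * Nat.card R := by
  rw [← hs, ← index_eq_card, R.index_mul_card]

omit hperf [IsSimpleGroup (K ⧸ R)] in
theorem false_660 (hn : Nat.card G = 660) (hv : 11 ∈ Cfsg.degreePrimes G) (hs : Nat.card (K ⧸ R) = 60) : False := by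
  haveI : Fact (Nat.Prime 11) := ⟨by norm_num⟩
  haveI : Fact (Nat.Prime 2) := ⟨Nat.prime_two⟩
  have hcard : Nat.card G = 11 * 60 := by rw [hn]
  obtain ⟨P, hP, hmul, hmem⟩ := sylow_data hcard (by norm_num) hv
  obtain ⟨hR, hRd⟩ := not_dvd_radical K R (t := 11) hcard (by norm_num) hv hs (by norm_num) (by norm_num)
    (by decide +kernel)
  have key : ∀ r ∈ (11 : ℕ).divisors, ¬ 11 ∣ r → r = 1 := by decide +kernel
  have hR1 := key _ (Nat.mem_divisors.mpr ⟨hRd, by norm_num⟩) hR
  have h4 := sylow_dvd_normalizer K P hP (r := 2) (j := 2) (m := 15)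
    (by rw [card_eq K R hs, hR1]; norm_num) (by norm_num) (by norm_num) (by decide +kernel)
  have key2 : ∀ n ∈ ((60 : ℕ).divisors.filter (fun n => n % 11 = 1)).erase 1, n = 12 := by decide +kernel
  rw [key2 _ hmem] at hmul
  rw [show Nat.card (normalizer ((P : Subgroup G) : Set G)) = 55 by omega] at h4
  norm_num at h4

omit hperf [IsSimpleGroup (K ⧸ R)] in
theorem false_3420 (hn : Nat.card G = 3420) (hv : 19 ∈ Cfsg.degreePrimes G) (hs : Nat.card (K ⧸ R) = 60) :
    False := by
  haveI : Fact (Nat.Prime 19) := ⟨by norm_num⟩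
  haveI : Fact (Nat.Prime 2) := ⟨Nat.prime_two⟩
  have hcard : Nat.card G = 19 * 180 := by rw [hn]
  obtain ⟨P, hP, hmul, hmem⟩ := sylow_data hcard (by norm_num) hv
  obtain ⟨hR, hRd⟩ := not_dvd_radical K R (t := 57) hcard (by norm_num) hv hs (by norm_num) (by norm_num)
    (by decide +kernel)
  have key : ∀ r ∈ (57 : ℕ).divisors, ¬ 19 ∣ r → r = 1 ∨ r = 3 := by decide +kernel
  have hR1 := key _ (Nat.mem_divisors.mpr ⟨hRd, by norm_num⟩) hR
  have h4 := sylow_dvd_normalizer K P hP (r := 2) (j := 2) (m := 15 * Nat.card R)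
    (by rw [card_eq K R hs]; ring) (by rcases hR1 with h | h <;> rw [h] <;> norm_num)
    (by rcases hR1 with h | h <;> rw [h] <;> norm_num) (by decide +kernel)
  have key2 : ∀ n ∈ ((180 : ℕ).divisors.filter (fun n => n % 19 = 1)).erase 1, n = 20 := by decide +kernel
  rw [key2 _ hmem] at hmul
  rw [show Nat.card (normalizer ((P : Subgroup G) : Set G)) = 171 by omega] at h4
  norm_num at h4

omit hperf [IsSimpleGroup (K ⧸ R)] in
theorem false_4080 (hn : Nat.card G = 4080) (hv : 17 ∈ Cfsg.degreePrimes G) (hs : Nat.card (K ⧸ R) = 60) :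
    False := by
  haveI : Fact (Nat.Prime 17) := ⟨by norm_num⟩
  haveI : Fact (Nat.Prime 3) := ⟨Nat.prime_three⟩
  have hcard : Nat.card G = 17 * 240 := by rw [hn]
  obtain ⟨P, hP, hmul, hmem⟩ := sylow_data hcard (by norm_num) hv
  obtain ⟨hR, hRd⟩ := not_dvd_radical K R (t := 68) hcard (by norm_num) hv hs (by norm_num) (by norm_num)
    (by decide +kernel)
  have key : ∀ r ∈ (68 : ℕ).divisors, ¬ 17 ∣ r → r = 1 ∨ r = 2 ∨ r = 4 := by decide +kernel
  have hR1 := key _ (Nat.mem_divisors.mpr ⟨hRd, by norm_num⟩) hR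
  have h4 := sylow_dvd_normalizer K P hP (r := 3) (j := 1) (m := 20 * Nat.card R)
    (by rw [card_eq K R hs]; ring) (by rcases hR1 with h | h | h <;> rw [h] <;> norm_num)
    (by rcases hR1 with h | h | h <;> rw [h] <;> norm_num) (by decide +kernel)
  have key2 : ∀ n ∈ ((240 : ℕ).divisors.filter (fun n => n % 17 = 1)).erase 1, n = 120 := by decide +kernel
  rw [key2 _ hmem] at hmul
  rw [show Nat.card (normalizer ((P : Subgroup G) : Set G)) = 34 by omega] at h4
  norm_num at h4

theorem false_2520_seven (hn : Nat.card G = 2520) (hv : 7 ∈ Cfsg.degreePrimes G)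
    (hs : Nat.card (K ⧸ R) = 60 ∨ Nat.card (K ⧸ R) = 360) : False := by
  haveI : Fact (Nat.Prime 7) := ⟨by norm_num⟩
  haveI : Fact (Nat.Prime 5) := ⟨by norm_num⟩
  haveI : Fact (Nat.Prime 3) := ⟨Nat.prime_three⟩
  have hcard : Nat.card G = 7 * 360 := by rw [hn]
  obtain ⟨P, hP, hmul, hmem⟩ := sylow_data hcard (by norm_num) hv
  have hK : Nat.card K ∈ [60, 120, 180, 360] ∧ Nat.card R < 60 := by
    rcases hs with hs | hs
    · obtain ⟨hR, hRd⟩ := not_dvd_radical K R (t := 42) hcard (by norm_num) hv hs (by norm_num) (by norm_num)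
        (by decide +kernel)
      have key : ∀ r ∈ (42 : ℕ).divisors, ¬ 7 ∣ r → r = 1 ∨ r = 2 ∨ r = 3 ∨ r = 6 := by decide +kernel
      rw [card_eq K R hs]
      rcases key _ (Nat.mem_divisors.mpr ⟨hRd, by norm_num⟩) hR with h | h | h | h <;> simp [h]
    · obtain ⟨hR, hRd⟩ := not_dvd_radical K R (t := 7) hcard (by norm_num) hv hs (by norm_num) (by norm_num)
        (by decide +kernel)
      have key : ∀ r ∈ (7 : ℕ).divisors, ¬ 7 ∣ r → r = 1 := by decide +kernel
      rw [card_eq K R hs, key _ (Nat.mem_divisors.mpr ⟨hRd, by norm_num⟩) hR]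
      simp
  obtain ⟨hK, hR60⟩ := hK
  simp only [List.mem_cons, List.not_mem_nil, or_false] at hK
  have h5 := sylow_dvd_normalizer K P hP (r := 5) (j := 1) (m := Nat.card K / 5)
    (by rcases hK with h | h | h | h <;> rw [h] <;> norm_num) (by rcases hK with h | h | h | h <;> rw [h] <;> norm_num)
    (by rcases hK with h | h | h | h <;> rw [h] <;> norm_num) (by decide +kernel)
  have h3 : 3 ∣ Nat.card (normalizer ((P : Subgroup G) : Set G)) := by
    rcases hK with h | h | h | h
    · exact sylow_dvd_normalizer K P hP (r := 3) (j := 1) (m := 20) (by rw [h]; norm_num) (by norm_num)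
        (by norm_num) (by decide +kernel)
    · exact sylow_dvd_normalizer K P hP (r := 3) (j := 1) (m := 40) (by rw [h]; norm_num) (by norm_num)
        (by norm_num) (by decide +kernel)
    · exact (dvd_pow_self 3 two_ne_zero).trans (sylow_dvd_normalizer K P hP (r := 3) (j := 2) (m := 20)
        (by rw [h]; norm_num) (by norm_num) (by norm_num) (by decide +kernel))
    · exact (dvd_pow_self 3 two_ne_zero).trans (sylow_dvd_normalizer K P hP (r := 3) (j := 2) (m := 40)
        (by rw [h]; norm_num) (by norm_num) (by norm_num) (by decide +kernel))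
  have hn8 : Nat.card (Sylow 7 G) = 8 := by
    have key : ∀ n ∈ ((360 : ℕ).divisors.filter (fun n => n % 7 = 1)).erase 1,
        5 ∣ 2520 / n → 3 ∣ 2520 / n → n = 8 := by decide +kernel
    have he : 2520 / Nat.card (Sylow 7 G) = Nat.card (normalizer ((P : Subgroup G) : Set G)) := by
      rw [show (2520 : ℕ) = 7 * 360 by norm_num, ← hmul, Nat.mul_div_cancel_left _ Nat.card_pos]
    refine key _ hmem ?_ ?_ <;> rw [he]
    · simpa using h5
    · exact h3
  rw [hn8] at hmul
  obtain ⟨C, hCn, hCN, hC7, hCd⟩ := kernel_bound P hP hn8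
  haveI := hCn
  rw [show Nat.card (normalizer ((P : Subgroup G) : Set G)) = 315 by omega] at hCd
  have hC : 15 ∣ Nat.card C := by omega
  have hKC : ¬ K ≤ C := fun h => by
    have h1 := (card_dvd_of_le h).trans (card_dvd_of_le hCN)
    rw [show Nat.card (normalizer ((P : Subgroup G) : Set G)) = 315 by omega] at h1
    rcases hK with h2 | h2 | h2 | h2 <;> rw [h2] at h1 <;> norm_num at h1
  haveI : Group.IsSolvable R := solvable_of_lt_sixty hR60
  have h := mul_dvd_of_radical K hperf R C hKC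
  rw [hn] at h
  rcases hs with hs | hs <;> rw [hs] at h
  · exact absurd ((Nat.mul_dvd_mul_right hC 60).trans h) (by norm_num)
  · exact absurd ((Nat.mul_dvd_mul_right hC 360).trans h) (by norm_num)

theorem false_2520_five (hn : Nat.card G = 2520) (hv : 5 ∈ Cfsg.degreePrimes G)
    (hs : Nat.card (K ⧸ R) = 168 ∨ Nat.card (K ⧸ R) = 504) : False := by
  haveI : Fact (Nat.Prime 7) := ⟨by norm_num⟩
  haveI : Fact (Nat.Prime 5) := ⟨by norm_num⟩
  haveI : Fact (Nat.Prime 3) := ⟨Nat.prime_three⟩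
  have hcard : Nat.card G = 5 * 504 := by rw [hn]
  obtain ⟨P, hP, hmul, hmem⟩ := sylow_data hcard (by norm_num) hv
  have hK : (Nat.card K = 168 ∨ Nat.card K = 504) ∧ Nat.card R < 60 := by
    rcases hs with hs | hs
    · obtain ⟨hR, hRd⟩ := not_dvd_radical K R (t := 15) hcard (by norm_num) hv hs (by norm_num) (by norm_num)
        (by decide +kernel)
      have key : ∀ r ∈ (15 : ℕ).divisors, ¬ 5 ∣ r → r = 1 ∨ r = 3 := by decide +kernel
      rw [card_eq K R hs]
      rcases key _ (Nat.mem_divisors.mpr ⟨hRd, by norm_num⟩) hR with h | h <;> simp [h]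
    · obtain ⟨hR, hRd⟩ := not_dvd_radical K R (t := 5) hcard (by norm_num) hv hs (by norm_num) (by norm_num)
        (by decide +kernel)
      have key : ∀ r ∈ (5 : ℕ).divisors, ¬ 5 ∣ r → r = 1 := by decide +kernel
      rw [card_eq K R hs, key _ (Nat.mem_divisors.mpr ⟨hRd, by norm_num⟩) hR]
      simp
  obtain ⟨hK, hR60⟩ := hK
  have h7 := sylow_dvd_normalizer K P hP (r := 7) (j := 1) (m := Nat.card K / 7)
    (by rcases hK with h | h <;> rw [h] <;> norm_num) (by rcases hK with h | h <;> rw [h] <;> norm_num)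
    (by rcases hK with h | h <;> rw [h] <;> norm_num) (by decide +kernel)
  have h3 : 3 ∣ Nat.card (normalizer ((P : Subgroup G) : Set G)) := by
    rcases hK with h | h
    · exact sylow_dvd_normalizer K P hP (r := 3) (j := 1) (m := 56) (by rw [h]; norm_num) (by norm_num)
        (by norm_num) (by decide +kernel)
    · exact (dvd_pow_self 3 two_ne_zero).trans (sylow_dvd_normalizer K P hP (r := 3) (j := 2) (m := 56)
        (by rw [h]; norm_num) (by norm_num) (by norm_num) (by decide +kernel))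
  have hn6 : Nat.card (Sylow 5 G) = 6 := by
    have key : ∀ n ∈ ((504 : ℕ).divisors.filter (fun n => n % 5 = 1)).erase 1,
        7 ∣ 2520 / n → 3 ∣ 2520 / n → n = 6 := by decide +kernel
    have he : 2520 / Nat.card (Sylow 5 G) = Nat.card (normalizer ((P : Subgroup G) : Set G)) := by
      rw [show (2520 : ℕ) = 5 * 504 by norm_num, ← hmul, Nat.mul_div_cancel_left _ Nat.card_pos]
    refine key _ hmem ?_ ?_ <;> rw [he]
    · simpa using h7
    · exact h3
  rw [hn6] at hmul
  obtain ⟨C, hCn, hCN, hC5, hCd⟩ := kernel_bound P hP hn6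
  haveI := hCn
  rw [show Nat.card (normalizer ((P : Subgroup G) : Set G)) = 420 by omega] at hCd
  have hC : 21 ∣ Nat.card C := by omega
  have hKC : ¬ K ≤ C := fun h => by
    have h1 := (card_dvd_of_le h).trans (card_dvd_of_le hCN)
    rw [show Nat.card (normalizer ((P : Subgroup G) : Set G)) = 420 by omega] at h1
    rcases hK with h2 | h2 <;> rw [h2] at h1 <;> norm_num at h1
  haveI : Group.IsSolvable R := solvable_of_lt_sixty hR60
  have h := mul_dvd_of_radical K hperf R C hKC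
  rw [hn] at h
  rcases hs with hs | hs <;> rw [hs] at h
  · exact absurd ((Nat.mul_dvd_mul_right hC 168).trans h) (by norm_num)
  · exact absurd ((Nat.mul_dvd_mul_right hC 504).trans h) (by norm_num)

omit hperf in
theorem adj_504 (hs : Nat.card (K ⧸ R) = 168) : (Cfsg.degreeGraph G).Adj 2 3 := by
  classical
  haveI : Fact (Nat.Prime 7) := ⟨by norm_num⟩
  obtain ⟨e⟩ := Cfsg.Agent.S0495.result hs (F := ZMod 7) (ZMod.card 7)
  obtain ⟨ψ, hψ⟩ := CfsgLib.DegreeTools.SL2Degrees.exists_deg_pred (F := ZMod 7) (by rw [ZMod.card]; norm_num)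
  obtain ⟨θ, hθ⟩ := CfsgLib.DegreeTools.SL2Degrees.exists_deg_equiv e ψ
  obtain ⟨θ', hθ'⟩ := exists_deg_inflate R θ
  obtain ⟨χ, hχ⟩ := exists_deg_dvd K θ'
  rw [hθ', hθ, hψ, ZMod.card] at hχ
  exact ⟨by norm_num, Nat.prime_two, Nat.prime_three, _, ⟨χ, rfl⟩, hχ⟩

end CfsgLib.SmallGroups.DegreeGraphSmall
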