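import Cfsg.Agent.Lib.SmallGroups.DegreeGraphSmall.CasesA
import Cfsg.Agent.Lib.DegreeTools.CentralSupport
import Cfsg.Agent.Lib.Char.CliffordAbelian
import Cfsg.Agent.S3669
import Mathlib.GroupTheory.Transfer
import Mathlib.GroupTheory.NoncommCoprod

/-!
# Non-simple groups of order 360
-/

set_option autoImplicit false

namespace CfsgLib.SmallGroups.DegreeGraphSmall

open Subgroup CfsgLib.SmallGroups.SimpleTools

section Sixty

variable {K : Type*} [Group K] [Finite K] [IsSimpleGroup K]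

theorem sixty_facts (hK : Nat.card K = 60) :
    (∃ ψ : Cfsg.IrrCharacter K, Cfsg.charDegree (ψ : K → ℂ) = 5) ∧
    (∃ ψ : Cfsg.IrrCharacter K, Cfsg.charDegree (ψ : K → ℂ) = 3) ∧
    ∀ ψ ψ' : Cfsg.IrrCharacter K, Cfsg.charDegree (ψ : K → ℂ) = 5 → Cfsg.charDegree (ψ' : K → ℂ) = 5 → ψ = ψ' := by
  classical
  cases nonempty_fintype K
  have hna : ¬ IsMulCommutative K := not_comm_of_card (by rw [hK]; norm_num)
  obtain ⟨e⟩ := Cfsg.Agent.S0494.result hK
  obtain ⟨-, ⟨a5, h5⟩, ⟨a3, h3⟩⟩ := Cfsg.Agent.S3669.alt_degrees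
  refine ⟨?_, ?_, fun ψ ψ' hψ hψ' => ?_⟩
  · obtain ⟨χ, h⟩ := CfsgLib.DegreeTools.SL2Degrees.exists_deg_equiv e a5
    exact ⟨χ, h.trans h5⟩
  · obtain ⟨χ, h⟩ := CfsgLib.DegreeTools.SL2Degrees.exists_deg_equiv e a3
    exact ⟨χ, h.trans h3⟩
  by_contra hne
  let ec : ConjClasses K ≃ ConjClasses (alternatingGroup (Fin 5)) :=
    { toFun := ConjClasses.map e.toMonoidHom
      invFun := ConjClasses.map e.symm.toMonoidHom
      left_inv := fun c => by
        induction c using Quotient.ind with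
        | _ a => exact congrArg ConjClasses.mk (e.symm_apply_apply a)
      right_inv := fun c => by
        induction c using Quotient.ind with
        | _ a => exact congrArg ConjClasses.mk (e.apply_symm_apply a) }
  have hc5 : Fintype.card (Cfsg.IrrCharacter K) = 5 := by
    rw [← Nat.card_eq_fintype_card, CfsgLib.Char.card_irrCharacter, Nat.card_congr ec, Cfsg.Agent.S3669.classes_alt]
  set t : Cfsg.IrrCharacter K := CfsgLib.Blocks.trivChar K
  have ht : Cfsg.charDegree (t : K → ℂ) = 1 := by simp [t, Cfsg.charDegree]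
  have htψ : t ≠ ψ := fun h => by rw [h] at ht; omega
  have htψ' : t ≠ ψ' := fun h => by rw [h] at ht; omega
  set A : Finset (Cfsg.IrrCharacter K) := {t, ψ, ψ'} with hA
  have hAc : A.card = 3 := Finset.card_eq_three.mpr ⟨t, ψ, ψ', htψ, htψ', hne, rfl⟩
  obtain ⟨x, y, hxy, hB⟩ := Finset.card_eq_two.mp (show Aᶜ.card = 2 by rw [Finset.card_compl, hc5, hAc])
  have hs := CfsgLib.KGroups.M11Tools.sum_deg_sq (G := K)
  rw [hK, ← Finset.sum_add_sum_compl A, hB, Finset.sum_pair hxy, hA,
    Finset.sum_insert (by simp [htψ, htψ']), Finset.sum_pair hne, ht, hψ, hψ'] at hs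
  have h2 : ∀ z ∈ Aᶜ, 2 ≤ Cfsg.charDegree (z : K → ℂ) := fun z hz => by
    refine Nat.succ_le_of_lt (lt_of_le_of_ne (CfsgLib.Blocks.charDegree_pos z) fun h => ?_)
    exact Finset.mem_compl.mp hz (by
      rw [CfsgLib.SmallGroups.BlockDegrees.eq_trivChar hna z h.symm]; simp [hA, t])
  have hx := h2 x (by rw [hB]; simp)
  have hy := h2 y (by rw [hB]; simp)
  have hx3 : Cfsg.charDegree (x : K → ℂ) < 4 := by nlinarith
  have hy3 : Cfsg.charDegree (y : K → ℂ) < 4 := by nlinarith
  interval_cases hX : Cfsg.charDegree (x : K → ℂ) <;> interval_cases hY : Cfsg.charDegree (y : K → ℂ) <;>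
    norm_num at hs

end Sixty

section Central

open scoped IsMulCommutative

/-- No element of order three of a perfect group of order `9 m` is central. -/
theorem eq_one_of_central {K : Type*} [Group K] [Finite K] (hperf : commutator K = ⊤) {m : ℕ}
    (hK : Nat.card K = 3 ^ 2 * m) (hm : ¬ 3 ∣ m) {z : K} (hz : ∀ g, g * z = z * g) (hz3 : z ^ 3 = 1) : z = 1 := by
  haveI : Fact (Nat.Prime 3) := ⟨Nat.prime_three⟩
  obtain ⟨P, hP⟩ := (IsPGroup.iff_orderOf.mpr fun u : zpowers z => ⟨(orderOf u).factorization 3, by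
    have hu : (u : K) ^ 3 = 1 := by
      obtain ⟨i, hi⟩ := mem_zpowers_iff.mp u.2
      rw [← hi, ← zpow_natCast, ← zpow_mul, mul_comm, zpow_mul, zpow_natCast, hz3, one_zpow]
    have hd : orderOf u ∣ 3 := by rw [← orderOf_coe]; exact orderOf_dvd_of_pow_eq_one hu
    rcases (Nat.dvd_prime Nat.prime_three).mp hd with h | h <;> rw [h]
    · simp
    · rw [Nat.prime_three.factorization_self, pow_one]⟩ : IsPGroup 3 (zpowers z)).exists_le_sylow
  have hPc : Nat.card (P : Subgroup K) = 3 ^ 2 := SimpleTools.card_sylow_subgroup hK hm P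
  haveI : IsMulCommutative (P : Subgroup K) := ⟨⟨IsPGroup.commutative_of_card_eq_prime_sq hPc⟩⟩
  have key : ∀ (k : ℕ) (g₀ : K), g₀⁻¹ * z ^ k * g₀ ∈ (P : Subgroup K) → g₀⁻¹ * z ^ k * g₀ = z ^ k := by
    intro k g₀ _
    have hc : Commute g₀ (z ^ k) := (show Commute g₀ z from hz g₀).pow_right k
    rw [mul_assoc, ← hc.eq, inv_mul_cancel_left]
  have h1 : MonoidHom.transfer (MonoidHom.id (P : Subgroup K)) z = 1 :=
    MonoidHom.mem_ker.mp (hperf ▸ Abelianization.commutator_subset_ker _ |>.trans le_rfl <| hperf ▸ mem_top z)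
  rw [MonoidHom.transfer_eq_pow _ z key] at h1
  have h2 : z ^ (P : Subgroup K).index = 1 := congrArg Subtype.val h1
  have hidx : (P : Subgroup K).index = m := by
    have h := (P : Subgroup K).index_mul_card
    rw [hPc, hK, mul_comm (3 ^ 2)] at h
    exact Nat.eq_of_mul_eq_mul_right (by norm_num) h
  rw [hidx] at h2
  have h3 := Nat.dvd_gcd (orderOf_dvd_of_pow_eq_one h2) (orderOf_dvd_of_pow_eq_one hz3)
  rw [Nat.Coprime.gcd_eq_one (Nat.coprime_comm.mp ((Nat.prime_three.coprime_iff_not_dvd).mpr hm)), Nat.dvd_one] at h3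
  exact orderOf_eq_one_iff.mp h3

end Central

/-- A homomorphism of a perfect group to a solvable group is trivial. -/
theorem hom_trivial {K S : Type*} [Group K] [Group S] [hS : Group.IsSolvable S] (hperf : commutator K = ⊤)
    (f : K →* S) (g : K) : f g = 1 := by
  obtain ⟨n, hn⟩ := hS.solvable
  have hd : ∀ n, derivedSeries K n = ⊤ := by
    intro n
    induction n with
    | zero => rfl
    | succ n ih => rw [derivedSeries_succ, ih, ← _root_.commutator_def, hperf]
  have h1 := map_derivedSeries_le_derivedSeries f n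
  rw [hd, hn] at h1
  exact Subgroup.mem_bot.mp (h1 ⟨g, trivial, rfl⟩)

variable {G : Type*} [Group G] [Finite G] (K : Subgroup G) [K.Normal] (R : Subgroup K) [R.Normal]

theorem not_three_dvd_radical (hperf : commutator K = ⊤) (hs : Nat.card (K ⧸ R) = 60) (hR : Nat.card R ∣ 6) :
    ¬ 3 ∣ Nat.card R := by
  intro h3
  haveI : Fact (Nat.Prime 3) := ⟨Nat.prime_three⟩
  obtain ⟨c, hc⟩ := h3
  have hc12 : c = 1 ∨ c = 2 := by
    have h2 : c ∣ 2 := Nat.dvd_of_mul_dvd_mul_left (show 0 < 3 by norm_num) (by rw [← hc]; exact hR)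
    exact (Nat.dvd_prime Nat.prime_two).mp h2
  obtain ⟨h1, h2⟩ := Finset.mem_filter.mp (card_sylow_mem (G := R) (p := 3) (k := 1) (m := c)
    (by rw [pow_one]; exact hc) (by omega))
  have hn1 : Nat.card (Sylow 3 R) = 1 := by
    have := Nat.le_of_dvd (by omega) (Nat.mem_divisors.mp h1).1
    omega
  haveI := (Nat.card_eq_one_iff_unique.mp hn1).1
  obtain ⟨Q⟩ : Nonempty (Sylow 3 R) := inferInstance
  haveI := Q.normal_of_subsingleton
  haveI : (Q : Subgroup R).Characteristic := Sylow.characteristic_of_normal Q inferInstance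
  set T := (Q : Subgroup R).map R.subtype with hT
  haveI : T.Normal := ConjAct.normal_of_characteristic_of_normal
  have hTc : Nat.card T = 3 := by
    rw [hT, card_map_of_injective R.subtype_injective, SimpleTools.card_sylow_subgroup (k := 1) (m := c)
      (by rw [pow_one]; exact hc) (by omega) Q, pow_one]
  haveI : IsCyclic T := isCyclic_of_prime_card hTc
  haveI : Group.IsSolvable (MulAut T) := solvable_of_lt_sixty (by
    rw [IsCyclic.card_mulAut, hTc, Nat.totient_prime Nat.prime_three]; norm_num)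
  obtain ⟨z, hz, hz3⟩ : ∃ z ∈ T, orderOf z = 3 := by
    obtain ⟨⟨z, hz⟩, h⟩ := exists_prime_orderOf_dvd_card' (G := T) 3 (by rw [hTc])
    exact ⟨z, hz, by rwa [← Subgroup.orderOf_coe] at h⟩
  have hcen : ∀ g : K, g * z = z * g := fun g => by
    have h := DFunLike.congr_fun (hom_trivial hperf (MulAut.conjNormal (H := T)) g) ⟨z, hz⟩
    have h' := congrArg Subtype.val h
    rw [MulAut.conjNormal_apply] at h'
    exact mul_inv_eq_iff_eq_mul.mp h'
  have hKc : Nat.card K = 3 ^ 2 * (20 * c) := by rw [card_eq K R hs, hc]; ring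
  have h1 := eq_one_of_central hperf hKc (by omega) hcen (by rw [← hz3]; exact pow_orderOf_eq_one z)
  rw [h1, orderOf_one] at hz3
  omega

variable (hn : Nat.card G = 360) [IsSimpleGroup (K ⧸ R)]
include hn

theorem false_radical_two (h25 : (Cfsg.degreeGraph G).Adj 2 5) (hs : Nat.card (K ⧸ R) = 60)
    (hR : Nat.card R = 2) : False := by
  classical
  cases nonempty_fintype G
  obtain ⟨-, -, -, d, ⟨χ, rfl⟩, hd⟩ := h25
  have hdle := Finset.single_le_sum (f := fun ψ : Cfsg.IrrCharacter G => Cfsg.charDegree (ψ : G → ℂ) ^ 2)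
    (fun _ _ => Nat.zero_le _) (Finset.mem_univ χ)
  rw [CfsgLib.KGroups.M11Tools.sum_deg_sq, hn] at hdle
  have hd10 : Cfsg.charDegree (χ : G → ℂ) = 10 := by
    have hpos := CfsgLib.Blocks.charDegree_pos χ
    obtain ⟨j, hj⟩ := hd
    rw [hj] at hdle hpos ⊢
    rcases j with _ | _ | j <;> first | omega | nlinarith
  obtain ⟨θ, hθ, -⟩ := CfsgLib.CharDeep.Clifford.exists_constituent
    (CfsgLib.Char.IsCharacter.isClassFunction
      (CfsgLib.Char.IsCharacter.restrict (CfsgLib.Char.isCharacter_irr χ) K))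
    (ψ := fun n : K => (χ : G → ℂ) n) (by
      rw [ne_eq, CfsgLib.Char.classInner_self_eq_zero]
      intro e
      exact CfsgLib.Char.IsIrrCharacter.apply_one_ne_zero χ.2 (by simpa using congrFun e 1))
  obtain ⟨hθd, hθi⟩ := Cfsg.Agent.S0887.result K (χ : G → ℂ) χ.2 (θ : K → ℂ) θ.2 hθ _ _
    (CfsgLib.DegreeTools.deg_cast χ).symm (CfsgLib.DegreeTools.deg_cast θ).symm
  have hi : K.index = 3 := by
    have h := K.index_mul_card
    rw [card_eq K R hs, hR, hn] at h
    omega
  rw [hd10] at hθd hθi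
  rw [hi] at hθi
  have hθ10 : Cfsg.charDegree (θ : K → ℂ) = 10 := by
    have key : ∀ d ∈ (10 : ℕ).divisors, 10 / d ∣ 3 → d = 10 := by decide +kernel
    exact key _ (Nat.mem_divisors.mpr ⟨hθd, by norm_num⟩) hθi
  obtain ⟨⟨a, ha⟩, -, -⟩ := sixty_facts hs
  obtain ⟨ψ, hψ⟩ := exists_deg_inflate R a
  rw [ha] at hψ
  have hs' := Finset.sum_le_sum_of_subset (f := fun φ : Cfsg.IrrCharacter K => Cfsg.charDegree (φ : K → ℂ) ^ 2)
    (Finset.subset_univ {ψ, θ})
  rw [CfsgLib.KGroups.M11Tools.sum_deg_sq, Finset.sum_pair (fun h => by rw [h, hθ10] at hψ; omega), hψ, hθ10,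
    card_eq K R hs, hR] at hs'
  norm_num at hs'

theorem false_radical_one (hperf : commutator K = ⊤) (hv : 5 ∈ Cfsg.degreePrimes G)
    (h23 : ¬ (Cfsg.degreeGraph G).Adj 2 3) (h25 : (Cfsg.degreeGraph G).Adj 2 5)
    (hs : Nat.card (K ⧸ R) = 60) (hR : Nat.card R = 1) : False := by
  classical
  cases nonempty_fintype G
  haveI : Fact (Nat.Prime 5) := ⟨by norm_num⟩
  haveI : Fact (Nat.Prime 3) := ⟨Nat.prime_three⟩
  have hR' : R = ⊥ := Subgroup.card_eq_one.mp hR
  haveI hKs : IsSimpleGroup K :=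
    ((QuotientGroup.quotientMulEquivOfEq hR').trans QuotientGroup.quotientBot).symm.isSimpleGroup
  have hKc : Nat.card K = 60 := by rw [card_eq K R hs, hR]
  have hKi : K.index = 6 := by
    have h := K.index_mul_card
    rw [hKc, hn] at h
    omega
  obtain ⟨P, hP, hmul, hmem⟩ := sylow_data (p := 5) (m := 72) (by rw [hn]) (by norm_num) hv
  have hn6 : Nat.card (Sylow 5 G) = 6 := by
    have he := (card_sylow_eq_of_normal (p := 5) K (by rw [hKi]; norm_num)).1
    obtain ⟨h1, h2⟩ := Finset.mem_filter.mp (card_sylow_mem (G := K) (p := 5) (k := 1) (m := 12)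
      (by rw [hKc]; norm_num) (by norm_num))
    obtain ⟨hne, -⟩ := Finset.mem_erase.mp hmem
    have key : ∀ n ∈ (12 : ℕ).divisors, n % 5 = 1 → n = 1 ∨ n = 6 := by decide +kernel
    rw [he] at hne ⊢
    exact (key _ h1 h2).resolve_left hne
  rw [hn6] at hmul
  obtain ⟨C, hCn, hCN, hC5, hCd⟩ := kernel_bound P hP hn6
  haveI := hCn
  rw [show Nat.card (normalizer ((P : Subgroup G) : Set G)) = 60 by omega] at hCd
  have hC3 : 3 ∣ Nat.card C := by omega
  have hKC : ¬ K ≤ C := fun h => hC5 ((show 5 ∣ Nat.card K by rw [hKc]; norm_num).trans (card_dvd_of_le h))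
  haveI : Group.IsSolvable R := solvable_of_lt_sixty (by omega)
  have hC6 : Nat.card C ∣ 6 := by
    have h := mul_dvd_of_radical K hperf R C hKC
    rw [hs, hn] at h
    exact Nat.dvd_of_mul_dvd_mul_right (show 0 < 60 by norm_num) h
  have hinfC : ∀ x, x ∈ K → x ∈ C → x = 1 := fun x hxK hxC => by
    have h := inf_le_radical K hperf R C hKC (show (⟨x, hxK⟩ : K) ∈ C.subgroupOf K from hxC)
    rw [hR', mem_bot] at h
    exact congrArg Subtype.val h
  -- the normal subgroup of order three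
  obtain ⟨c, hc⟩ := hC3
  have hc12 : c = 1 ∨ c = 2 := (Nat.dvd_prime Nat.prime_two).mp
    (Nat.dvd_of_mul_dvd_mul_left (show 0 < 3 by norm_num) (by rw [← hc]; exact hC6))
  obtain ⟨h1, h2⟩ := Finset.mem_filter.mp (card_sylow_mem (G := C) (p := 3) (k := 1) (m := c)
    (by rw [pow_one]; exact hc) (by omega))
  have hn1 : Nat.card (Sylow 3 C) = 1 := by
    have := Nat.le_of_dvd (by omega) (Nat.mem_divisors.mp h1).1
    omega
  haveI := (Nat.card_eq_one_iff_unique.mp hn1).1
  obtain ⟨Q⟩ : Nonempty (Sylow 3 C) := inferInstance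
  haveI := Q.normal_of_subsingleton
  haveI : (Q : Subgroup C).Characteristic := Sylow.characteristic_of_normal Q inferInstance
  set T := (Q : Subgroup C).map C.subtype with hT
  haveI hTn : T.Normal := ConjAct.normal_of_characteristic_of_normal
  have hTc : Nat.card T = 3 := by
    rw [hT, card_map_of_injective C.subtype_injective, SimpleTools.card_sylow_subgroup (k := 1) (m := c)
      (by rw [pow_one]; exact hc) (by omega) Q, pow_one]
  have hdisj : Disjoint K T := disjoint_def.mpr fun {x} hxK hxT => hinfC x hxK (map_subtype_le _ hxT)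
  have hcomm : ∀ (k : K) (t : T), Commute (k : G) (t : G) := fun k t =>
    Subgroup.commute_of_normal_of_disjoint K T inferInstance hTn hdisj k t k.2 t.2
  let μ : K × T →* G := MonoidHom.noncommCoprod K.subtype T.subtype hcomm
  have hμ : Function.Injective μ := by
    rw [injective_iff_map_eq_one]
    rintro ⟨k, t⟩ h
    replace h : (k : G) * t = 1 := h
    have hk : (k : G) = 1 := disjoint_def.mp hdisj k.2 (by rw [eq_inv_of_mul_eq_one_left h]; exact inv_mem t.2)
    rw [hk, one_mul] at h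
    exact Prod.ext (Subtype.ext hk) (Subtype.ext h)
  obtain ⟨⟨ψ5, hψ5⟩, ⟨ψ3, hψ3⟩, huniq⟩ := sixty_facts hKc
  by_cases hcen : ∀ (g : G) (t : T), g * t = t * g
  · -- the central case
    obtain ⟨-, -, -, d, ⟨χ, rfl⟩, hd⟩ := h25
    have hdle := Finset.single_le_sum (f := fun ψ : Cfsg.IrrCharacter G => Cfsg.charDegree (ψ : G → ℂ) ^ 2)
      (fun _ _ => Nat.zero_le _) (Finset.mem_univ χ)
    rw [CfsgLib.KGroups.M11Tools.sum_deg_sq, hn] at hdle
    have hd10 : Cfsg.charDegree (χ : G → ℂ) = 10 := by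
      have hpos := CfsgLib.Blocks.charDegree_pos χ
      obtain ⟨j, hj⟩ := hd
      rw [hj] at hdle hpos ⊢
      rcases j with _ | _ | j <;> first | omega | nlinarith
    obtain ⟨θ, hθ, -⟩ := CfsgLib.CharDeep.Clifford.exists_constituent
      (CfsgLib.Char.IsCharacter.isClassFunction
        (CfsgLib.Char.IsCharacter.restrict (CfsgLib.Char.isCharacter_irr χ) K))
      (ψ := fun n : K => (χ : G → ℂ) n) (by
        rw [ne_eq, CfsgLib.Char.classInner_self_eq_zero]
        intro e
        exact CfsgLib.Char.IsIrrCharacter.apply_one_ne_zero χ.2 (by simpa using congrFun e 1))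
    obtain ⟨hθd, hθi⟩ := Cfsg.Agent.S0887.result K (χ : G → ℂ) χ.2 (θ : K → ℂ) θ.2 hθ _ _
      (CfsgLib.DegreeTools.deg_cast χ).symm (CfsgLib.DegreeTools.deg_cast θ).symm
    rw [hd10] at hθd hθi
    rw [hKi] at hθi
    have hθ5 : Cfsg.charDegree (θ : K → ℂ) = 5 := by
      have hle := Finset.single_le_sum (f := fun φ : Cfsg.IrrCharacter K => Cfsg.charDegree (φ : K → ℂ) ^ 2)
        (fun _ _ => Nat.zero_le _) (Finset.mem_univ θ)
      rw [CfsgLib.KGroups.M11Tools.sum_deg_sq, hKc] at hle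
      have key : ∀ d ∈ (10 : ℕ).divisors, 10 / d ∣ 6 → d ^ 2 ≤ 60 → d = 5 := by decide +kernel
      exact key _ (Nat.mem_divisors.mpr ⟨hθd, by norm_num⟩) hθi hle
    obtain ⟨e, -, -, hres⟩ := CfsgLib.CharDeep.Clifford.restrict_eq_smul K χ.2 θ.2 hθ (fun g n => by
      let φ : Cfsg.IrrCharacter K :=
        ⟨_, CfsgLib.CharDeep.Clifford.isIrrCharacter_conjFun K g θ.2⟩
      have hφ : φ = θ := huniq _ _ (by
        refine CfsgLib.DegreeTools.SL2Degrees.deg_eq_of_apply_one _ ?_
        show CfsgLib.CharDeep.Clifford.conjFun K g (θ : K → ℂ) 1 = _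
        rw [CfsgLib.CharDeep.Clifford.conjFun_apply, ← hθ5, CfsgLib.DegreeTools.deg_cast]
        exact congrArg (θ : K → ℂ) (Subtype.ext (by simp))) hθ5
      have h := congrFun (congrArg Subtype.val hφ) n
      exact (CfsgLib.CharDeep.Clifford.conjFun_apply K g (θ : K → ℂ) n).symm.trans h)
    have he2 : (e : ℂ) = 2 := by
      have h := congrFun hres 1
      simp only [Pi.smul_apply, smul_eq_mul, OneMemClass.coe_one, ← CfsgLib.DegreeTools.deg_cast, hd10, hθ5] at h
      push_cast at h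
      linear_combination (-1 / 5 : ℂ) * h
    have hKsum : ∑ k : K, ‖(χ : G → ℂ) k‖ ^ 2 = 240 := by
      rw [Finset.sum_congr rfl (g := fun k => 4 * ‖(θ : K → ℂ) k‖ ^ 2) fun k _ => by
        rw [show (χ : G → ℂ) k = (e : ℂ) * (θ : K → ℂ) k from congrFun hres k, he2, norm_mul]
        norm_num; ring]
      rw [← Finset.mul_sum, CfsgLib.DegreeTools.sum_norm_sq θ, hKc]
      norm_num
    have hprod : ∀ p : K × T, ‖(χ : G → ℂ) (μ p)‖ ^ 2 = ‖(χ : G → ℂ) p.1‖ ^ 2 := by
      intro p
      have hz : (p.2 : G) ∈ center G := mem_center_iff.mpr fun g => hcen g p.2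
      show ‖(χ : G → ℂ) ((p.1 : G) * (p.2 : G))‖ ^ 2 = _
      rw [CfsgLib.DegreeTools.apply_mul_center χ hz, norm_mul, norm_div,
        CfsgLib.DegreeTools.norm_apply_center χ hz, ← CfsgLib.DegreeTools.deg_cast, Complex.norm_natCast,
        div_self (Nat.cast_ne_zero.mpr (CfsgLib.Blocks.charDegree_pos χ).ne'), one_mul]
    have hle : ∑ p : K × T, ‖(χ : G → ℂ) (μ p)‖ ^ 2 ≤ (360 : ℝ) := by
      rw [← Finset.sum_image (f := fun g : G => ‖(χ : G → ℂ) g‖ ^ 2) hμ.injOn]
      refine le_trans (Finset.sum_le_univ_sum_of_nonneg fun g => by positivity) (le_of_eq ?_)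
      rw [CfsgLib.DegreeTools.sum_norm_sq χ, hn]
      norm_num
    have hT3 : Fintype.card T = 3 := by rw [← Nat.card_eq_fintype_card, hTc]
    rw [Finset.sum_congr rfl fun p _ => hprod p, Fintype.sum_prod_type] at hle
    simp only [Finset.sum_const, Finset.card_univ, hT3, nsmul_eq_mul, ← Finset.mul_sum] at hle
    rw [hKsum] at hle
    norm_num at hle
  · -- an element inverting the subgroup of order three
    push Not at hcen
    obtain ⟨g, t, hgt⟩ := hcen
    haveI : IsCyclic T := isCyclic_of_prime_card hTc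
    letI : CommGroup T := IsCyclic.commGroup
    obtain ⟨el⟩ := CommGroup.monoidHom_mulEquiv_of_hasEnoughRootsOfUnity T ℂ
    obtain ⟨u, hu1⟩ : ∃ u : T, u ≠ 1 := by
      by_contra hall
      push Not at hall
      haveI : Subsingleton T := ⟨fun a b => (hall a).trans (hall b).symm⟩
      rw [Nat.card_eq_one_iff_unique.mpr ⟨inferInstance, ⟨1⟩⟩] at hTc
      omega
    set lam : T →* ℂˣ := el.symm u
    have hlam : lam ≠ 1 := fun h => hu1 (by
      have := congrArg el h
      rwa [MulEquiv.apply_symm_apply, map_one] at this)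
    have hlinj : Function.Injective lam := by
      rw [← MonoidHom.ker_eq_bot_iff]
      haveI : Fact (Nat.card T).Prime := ⟨by rw [hTc]; exact Nat.prime_three⟩
      exact lam.ker.eq_bot_or_eq_top_of_prime_card.resolve_right fun h => hlam (MonoidHom.ext fun w =>
        MonoidHom.mem_ker.mp (h ▸ mem_top w))
    set θ₀ : K × T → ℂ := ((ψ3 : K → ℂ) ∘ MonoidHom.fst K T) * fun p => ((lam.comp (MonoidHom.snd K T)) p : ℂ)
    have hθ₀ : Cfsg.IsIrrCharacter (K × T) θ₀ := CfsgLib.Char.IsIrrCharacter.mul_hom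
      (CfsgLib.Char.IsIrrCharacter.comp_surjective ψ3.2 (MonoidHom.fst K T) Prod.fst_surjective) _
    set H := μ.range with hH
    let em : K × T ≃* H := MonoidHom.ofInjective hμ
    let θ : Cfsg.IrrCharacter H := ⟨θ₀ ∘ em.symm, CfsgLib.Char.IsIrrCharacter.comp_equiv hθ₀ em.symm⟩
    have hθval : ∀ p : K × T, (θ : H → ℂ) (em p) = (ψ3 : K → ℂ) p.1 * (lam p.2 : ℂ) := fun p => by
      show θ₀ (em.symm (em p)) = _
      rw [em.symm_apply_apply]
      rfl
    haveI hHn : H.Normal := by
      have hr : μ.range = K ⊔ T :=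
        (MonoidHom.noncommCoprod_range K.subtype T.subtype hcomm).trans (by rw [range_subtype, range_subtype])
      rw [hH, hr]
      infer_instance
    have hHc : Nat.card H = 180 := by
      rw [← Nat.card_congr em.toEquiv, Nat.card_prod, hKc, hTc]
    have hHi : H.index = 2 := by
      have h := H.index_mul_card
      rw [hHc, hn] at h
      omega
    obtain ⟨χ, hχ⟩ := CfsgLib.CharDeep.ItoMichler.exists_over H θ
    have hθ1 : (θ : H → ℂ) 1 = ((3 : ℕ) : ℂ) := by
      have h := hθval 1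
      rw [map_one] at h
      rw [h, Prod.fst_one, Prod.snd_one, map_one, ← hψ3, CfsgLib.DegreeTools.deg_cast]
      simp
    obtain ⟨hd1, hd2⟩ := Cfsg.Agent.S0887.result H (χ : G → ℂ) χ.2 (θ : H → ℂ) θ.2 hχ _ _
      (CfsgLib.DegreeTools.deg_cast χ).symm hθ1
    rw [hHi] at hd2
    obtain ⟨j, hj⟩ := hd1
    rw [hj, Nat.mul_div_cancel_left j (by norm_num)] at hd2
    rcases (Nat.dvd_prime Nat.prime_two).mp hd2 with rfl | rfl
    · have hres := CfsgLib.CharDeep.Clifford.eq_of_constituent_of_apply_one_eq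
        (CfsgLib.Char.IsCharacter.restrict (CfsgLib.Char.isCharacter_irr χ) H) θ.2 hχ (by
          rw [hθ1, OneMemClass.coe_one, ← CfsgLib.DegreeTools.deg_cast, hj, mul_one])
      have htv : ∀ w : T, (χ : G → ℂ) (w : G) = 3 * (lam w : ℂ) := fun w => by
        have h := congrFun hres (em (1, w))
        rw [hθval, ← CfsgLib.DegreeTools.deg_cast, hψ3] at h
        have hv : ((em (1, w) : H) : G) = (w : G) := by
          show (1 : G) * (w : G) = w
          rw [one_mul]
        rw [hv] at h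
        simpa using h
      have hgT : g * t * g⁻¹ ∈ T := hTn.conj_mem _ t.2 g
      have h1 := htv ⟨_, hgT⟩
      rw [show ((⟨g * t * g⁻¹, hgT⟩ : T) : G) = g * t * g⁻¹ from rfl,
        CfsgLib.Char.IsIrrCharacter.isClassFunction χ.2 (t : G) g, htv t] at h1
      have h2 := hlinj (Units.ext (mul_left_cancel₀ (by norm_num : (3 : ℂ) ≠ 0) h1))
      apply hgt
      have h3 : (t : G) = g * t * g⁻¹ := congrArg Subtype.val h2
      conv_rhs => rw [h3]
      group
    · exact h23 ⟨by norm_num, Nat.prime_two, Nat.prime_three, _, ⟨χ, rfl⟩, by rw [hj]⟩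

theorem false_360 (hperf : commutator K = ⊤) (hv : 5 ∈ Cfsg.degreePrimes G)
    (h23 : ¬ (Cfsg.degreeGraph G).Adj 2 3) (h25 : (Cfsg.degreeGraph G).Adj 2 5)
    (hs : Nat.card (K ⧸ R) = 60) : False := by
  have hd : Nat.card R ∣ 6 := by
    have h := K.index_mul_card
    rw [card_eq K R hs, hn] at h
    exact ⟨K.index, by linarith⟩
  have h3 := not_three_dvd_radical K R hperf hs hd
  have key : ∀ r ∈ (6 : ℕ).divisors, ¬ 3 ∣ r → r = 1 ∨ r = 2 := by decide +kernel
  rcases key _ (Nat.mem_divisors.mpr ⟨hd, by norm_num⟩) h3 with h | h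
  · exact false_radical_one K R hn hperf hv h23 h25 hs h
  · exact false_radical_two K R hn h25 hs h

end CfsgLib.SmallGroups.DegreeGraphSmall
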