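import Cfsg.Agent.Lib.SmallGroups.DegreeGraphSmall.CasesB

/-!
# Groups with the order and the degree graph of a small simple group are simple
-/

set_option autoImplicit false

namespace CfsgLib.SmallGroups.DegreeGraphSmall

open Subgroup CfsgLib.SmallGroups.SimpleTools

variable {G : Type*} [Group G] [Finite G]

theorem not_solvable_twenty {p r s b a : ℕ} [Fact p.Prime] (hr : r.Prime) (hs : s.Prime) (hpr : p ≠ r)
    (hps : p ≠ s) (hrs : r ≠ s) (hb : r ∣ r ^ b) (hcard : Nat.card G = p * (r ^ b * s ^ a))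
    (hv : p ∈ Cfsg.degreePrimes G) (hvr : r ∈ Cfsg.degreePrimes G)
    (key : ∀ n ∈ ((r ^ b * s ^ a).divisors.filter (fun n => n % p = 1)).erase 1, n = r ^ b ∨
      ∃ ℓ ∈ [2, 3, 5, 7], ∃ j ∈ Finset.range 6, ℓ ^ j ∣ n ∧ ¬ ℓ ^ (j + 1) ∣ n ∧ ℓ ^ j % p ≠ 1)
    (hkr : ∀ c ∈ (r ^ b).divisors, c % p = 1 → c = 1 ∨ c = r ^ b)
    (hks : ∀ i ∈ Finset.range (a + 1), ∀ c ∈ (s ^ i).divisors, c % p = s ^ i % p → c = s ^ i) :
    ¬ Group.IsSolvable G := by
  intro hsol
  have hp : p.Prime := Fact.out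
  have hnd : ¬ p ∣ r ^ b * s ^ a := fun h => by
    rcases hp.dvd_mul.mp h with h | h
    · exact hpr ((Nat.prime_dvd_prime_iff_eq hp hr).mp (hp.dvd_of_dvd_pow h))
    · exact hps ((Nat.prime_dvd_prime_iff_eq hp hs).mp (hp.dvd_of_dvd_pow h))
  obtain ⟨P, -, -, hmem⟩ := sylow_data hcard hnd hv
  have hn : Nat.card (Sylow p G) = r ^ b := by
    refine (key _ hmem).resolve_right ?_
    rintro ⟨ℓ, hℓ, j, -, h1, h2, h3⟩
    have hℓp : ℓ.Prime := by
      simp only [List.mem_cons, List.not_mem_nil, or_false] at hℓ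
      rcases hℓ with rfl | rfl | rfl | rfl <;> norm_num
    have h := Cfsg.Agent.S4345.result hsol p ℓ hℓp
    have hn0 : Nat.card (Sylow p G) ≠ 0 := Nat.card_pos.ne'
    have e1 := (hℓp.pow_dvd_iff_le_factorization hn0).mp h1
    have e2 : ¬ j + 1 ≤ (Nat.card (Sylow p G)).factorization ℓ := fun h' =>
      h2 ((hℓp.pow_dvd_iff_le_factorization hn0).mpr h')
    rw [show (Nat.card (Sylow p G)).factorization ℓ = j by omega, Nat.ModEq,
      Nat.one_mod_eq_one.mpr hp.ne_one] at h
    exact h3 h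
  obtain ⟨R, hRn, hRc, hRab⟩ := exists_normal_abelian hr hs hpr hps hrs a hsol hcard hn hkr hks
  haveI := hRn
  refine false_of_normal_abelian R hRab ?_ hvr
  intro h
  have h1 := R.index_mul_card
  rw [hRc, hcard, show p * (r ^ b * s ^ a) = p * s ^ a * r ^ b by ring] at h1
  rw [Nat.eq_of_mul_eq_mul_right (pow_pos hr.pos b) h1] at h
  rcases hr.dvd_mul.mp h with h | h
  · exact hpr ((Nat.prime_dvd_prime_iff_eq hr hp).mp h).symm
  · exact hrs ((Nat.prime_dvd_prime_iff_eq hr hs).mp (hr.dvd_of_dvd_pow h))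

theorem not_solvable {n : ℕ} (hn : Nat.card G = n) (ho : n ∈ orders)
    (hV : ∀ p ∈ vertices n, p ∈ Cfsg.degreePrimes G) : ¬ Group.IsSolvable G := by
  haveI : Fact (Nat.Prime 5) := ⟨by norm_num⟩
  haveI : Fact (Nat.Prime 7) := ⟨by norm_num⟩
  haveI : Fact (Nat.Prime 11) := ⟨by norm_num⟩
  haveI : Fact (Nat.Prime 13) := ⟨by norm_num⟩
  haveI : Fact (Nat.Prime 17) := ⟨by norm_num⟩
  haveI : Fact (Nat.Prime 19) := ⟨by norm_num⟩
  simp only [orders, List.mem_cons, List.not_mem_nil, or_false] at ho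
  rcases ho with rfl | rfl | rfl | rfl | rfl | rfl | rfl | rfl | rfl | rfl | rfl
  · exact not_solvable_of_hall (p := 5) (m := 12) (by rw [hn]) (by norm_num) (hV 5 (by simp [vertices]))
      (by decide +kernel)
  · exact not_solvable_twenty (p := 7) (r := 2) (s := 3) (b := 3) (a := 1) Nat.prime_two Nat.prime_three
      (by norm_num) (by norm_num) (by norm_num) (by norm_num) (by rw [hn]; norm_num) (hV 7 (by simp [vertices]))
      (hV 2 (by simp [vertices])) (by decide +kernel) (by decide +kernel) (by decide +kernel)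
  · exact not_solvable_of_hall (p := 5) (m := 72) (by rw [hn]) (by norm_num) (hV 5 (by simp [vertices]))
      (by decide +kernel)
  · exact not_solvable_twenty (p := 7) (r := 2) (s := 3) (b := 3) (a := 2) Nat.prime_two Nat.prime_three
      (by norm_num) (by norm_num) (by norm_num) (by norm_num) (by rw [hn]; norm_num) (hV 7 (by simp [vertices]))
      (hV 2 (by simp [vertices])) (by decide +kernel) (by decide +kernel) (by decide +kernel)
  · exact not_solvable_of_hall (p := 11) (m := 60) (by rw [hn]) (by norm_num) (hV 11 (by simp [vertices]))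
      (by decide +kernel)
  · exact not_solvable_of_hall (p := 13) (m := 84) (by rw [hn]) (by norm_num) (hV 13 (by simp [vertices]))
      (by decide +kernel)
  · exact not_solvable_of_hall (p := 17) (m := 144) (by rw [hn]) (by norm_num) (hV 17 (by simp [vertices]))
      (by decide +kernel)
  · exact not_solvable_of_hall (p := 5) (m := 504) (by rw [hn]) (by norm_num) (hV 5 (by simp [vertices]))
      (by decide +kernel)
  · exact not_solvable_of_hall (p := 19) (m := 180) (by rw [hn]) (by norm_num) (hV 19 (by simp [vertices]))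
      (by decide +kernel)
  · exact not_solvable_of_hall (p := 17) (m := 240) (by rw [hn]) (by norm_num) (hV 17 (by simp [vertices]))
      (by decide +kernel)
  · exact not_solvable_twenty (p := 13) (r := 3) (s := 2) (b := 3) (a := 4) Nat.prime_three Nat.prime_two
      (by norm_num) (by norm_num) (by norm_num) (by norm_num) (by rw [hn]; norm_num) (hV 13 (by simp [vertices]))
      (hV 3 (by simp [vertices])) (by decide +kernel) (by decide +kernel) (by decide +kernel)

/-- A group with the order and the degree graph of a small simple group is simple. -/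
theorem isSimple {n : ℕ} (hn : Nat.card G = n) (ho : n ∈ orders)
    (hV : ∀ p ∈ vertices n, p ∈ Cfsg.degreePrimes G)
    (h504 : n = 504 → ¬ (Cfsg.degreeGraph G).Adj 2 3)
    (h360 : n = 360 → ¬ (Cfsg.degreeGraph G).Adj 2 3 ∧ (Cfsg.degreeGraph G).Adj 2 5) : IsSimpleGroup G := by
  have hlt : n < 6000 := by
    simp only [orders, List.mem_cons, List.not_mem_nil, or_false] at ho
    omega
  rcases exists_section (not_solvable hn ho hV) (hn ▸ hlt) with h |
    ⟨K, hKn, hperf, R, hRn, hsimp, -, hs, hmul, hdvd, hle⟩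
  · exact h
  exfalso
  haveI := hKn
  haveI := hRn
  haveI := hsimp
  have hsd : Nat.card (K ⧸ R) ∣ n := hn ▸ (Dvd.intro _ hmul.symm).trans hdvd
  rw [hn] at hle
  have key : ∀ n ∈ orders, ∀ s ∈ orders, s ∣ n → 2 * s ≤ n →
      (n = 360 ∧ s = 60) ∨ (n = 504 ∧ s = 168) ∨ (n = 660 ∧ s = 60) ∨ (n = 3420 ∧ s = 60) ∨
      (n = 4080 ∧ s = 60) ∨ (n = 2520 ∧ (s = 60 ∨ s = 360)) ∨ (n = 2520 ∧ (s = 168 ∨ s = 504)) := by
    decide +kernel
  rcases key n ho _ (by simpa [orders] using hs) hsd hle with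
    ⟨rfl, h⟩ | ⟨rfl, h⟩ | ⟨rfl, h⟩ | ⟨rfl, h⟩ | ⟨rfl, h⟩ | ⟨rfl, h⟩ | ⟨rfl, h⟩
  · exact false_360 K R hn hperf (hV 5 (by simp [vertices])) (h360 rfl).1 (h360 rfl).2 h
  · exact h504 rfl (adj_504 K R h)
  · exact false_660 K R hn (hV 11 (by simp [vertices])) h
  · exact false_3420 K R hn (hV 19 (by simp [vertices])) h
  · exact false_4080 K R hn (hV 17 (by simp [vertices])) h
  · exact false_2520_seven K R hperf hn (hV 7 (by simp [vertices])) h
  · exact false_2520_five K R hperf hn (hV 5 (by simp [vertices])) h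

end CfsgLib.SmallGroups.DegreeGraphSmall
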