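import Cfsg.Agent.Lib.SmallGroups.SimpleTools
import Cfsg.Agent.Lib.SmallGroups.CosetFixed
import Cfsg.Agent.Lib.SmallGroups.Order2520
import Cfsg.Agent.Lib.SmallGroups.OrdersLow.Main
import Cfsg.Agent.Lib.DegreeTools.PDegree
import Cfsg.Agent.Lib.NumberTheory.SylowCount
import Cfsg.Agent.Lib.Solvable.Basic
import Cfsg.Agent.Lib.FTApps.AbelianSylowIndex
import Cfsg.Prelude.Def_DegreeGraph
import Cfsg.Agent.S0496
import Cfsg.Agent.S0983
import Cfsg.Agent.S4345

/-!
# Tools for groups with the order and degree graph of a small simple group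
-/

set_option autoImplicit false

namespace CfsgLib.SmallGroups.DegreeGraphSmall

open Subgroup CfsgLib.SmallGroups.SimpleTools CfsgLib.NT.SylowCount

variable {G : Type*} [Group G] [Finite G]

/-- The order of a simple non-abelian group below `6000`. -/
theorem simple_card_mem {T : Type*} [Group T] [Finite T] [IsSimpleGroup T] (hT : ¬ IsMulCommutative T)
    (h : Nat.card T < 6000) :
    Nat.card T ∈ [60, 168, 360, 504, 660, 1092, 2448, 2520, 3420, 4080, 5616] := by
  simp only [List.mem_cons, List.not_mem_nil, or_false]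
  rcases Nat.lt_or_ge 1092 (Nat.card T) with h1 | h1
  · rcases Nat.lt_or_ge 3640 (Nat.card T) with h2 | h2
    · rcases Cfsg.Agent.S0983.result hT h2 (by omega) with e | e | e | e <;> omega
    · rcases CfsgLib.SmallGroups.OrdersLow.census hT h1 h2 with e | e | e <;> omega
  · rcases Cfsg.Agent.S0496.result hT h1 with e | e | e | e | e | e <;> omega

theorem exists_simple_quotient {K : Type*} [Group K] [Finite K] [Nontrivial K] (hperf : commutator K = ⊤) :
    ∃ (R : Subgroup K) (_ : R.Normal), IsSimpleGroup (K ⧸ R) ∧ ¬ IsMulCommutative (K ⧸ R) := by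
  obtain ⟨N, -, ⟨hNn, hNt⟩, hNmax⟩ := Finite.exists_le_maximal
    (p := fun N : Subgroup K => N.Normal ∧ N ≠ ⊤) (a := ⊥) ⟨inferInstance, bot_ne_top⟩
  haveI := hNn
  haveI : Nontrivial (K ⧸ N) := QuotientGroup.nontrivial_iff.2 hNt
  refine ⟨N, hNn, ⟨fun M hM => ?_⟩, fun hc => ?_⟩
  · by_contra hne
    rw [not_or] at hne
    have hle : N ≤ M.comap (QuotientGroup.mk' N) := QuotientGroup.le_comap_mk' N M
    have htop : M.comap (QuotientGroup.mk' N) ≠ ⊤ := fun h => hne.2
      (comap_injective (QuotientGroup.mk'_surjective N) (h.trans (comap_top _).symm))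
    have heq := le_antisymm (hNmax ⟨hM.comap _, htop⟩ hle) hle
    exact hne.1 (by
      rw [← map_comap_eq_self_of_surjective (QuotientGroup.mk'_surjective N) M, heq, QuotientGroup.map_mk'_self])
  · have h1 : commutator (K ⧸ N) = ⊥ := by
      rw [commutator_def, commutator_eq_bot_iff_le_centralizer]
      exact fun x _ => mem_centralizer_iff.2 fun y _ => hc.is_comm.comm y x
    have h2 : (commutator K).map (QuotientGroup.mk' N) = commutator (K ⧸ N) := by
      rw [commutator_def, commutator_def, Subgroup.map_commutator,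
        Subgroup.map_top_of_surjective _ (QuotientGroup.mk'_surjective N)]
    rw [hperf, h1, Subgroup.map_eq_bot_iff, QuotientGroup.ker_mk'] at h2
    exact hNt (top_le_iff.1 h2)

/-- A group of order below sixty is solvable. -/
theorem solvable_of_lt_sixty {H : Type*} [Group H] [Finite H] (h : Nat.card H < 60) : Group.IsSolvable H := by
  by_contra hns
  obtain ⟨K, -, hK, hperf⟩ := CfsgLib.FTApps.AbelianSylowIndex.exists_perfect_normal hns
  haveI : Nontrivial K := (Subgroup.nontrivial_iff_ne_bot K).mpr hK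
  obtain ⟨R, hR, hsimp, hnc⟩ := exists_simple_quotient hperf
  haveI := hR
  haveI := hsimp
  have hle : Nat.card (K ⧸ R) ≤ Nat.card H :=
    (Nat.card_le_card_of_surjective _ (QuotientGroup.mk'_surjective R)).trans (Nat.card_le_card_of_injective _ K.subtype_injective)
  have hmem := simple_card_mem hnc (by omega)
  simp only [List.mem_cons, List.not_mem_nil, or_false] at hmem
  omega

/-- The simple section of a non-solvable group of order below `6000`. -/
theorem exists_section (hns : ¬ Group.IsSolvable G) (hn : Nat.card G < 6000) :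
    IsSimpleGroup G ∨ ∃ K : Subgroup G, K.Normal ∧ commutator K = ⊤ ∧ ∃ (R : Subgroup K) (_ : R.Normal),
      IsSimpleGroup (K ⧸ R) ∧ ¬ IsMulCommutative (K ⧸ R) ∧
      Nat.card (K ⧸ R) ∈ [60, 168, 360, 504, 660, 1092, 2448, 2520, 3420, 4080, 5616] ∧
      Nat.card K = Nat.card (K ⧸ R) * Nat.card R ∧ Nat.card K ∣ Nat.card G ∧
      2 * Nat.card (K ⧸ R) ≤ Nat.card G := by
  obtain ⟨K, hKn, hK, hperf⟩ := CfsgLib.FTApps.AbelianSylowIndex.exists_perfect_normal hns
  haveI : Nontrivial K := (Subgroup.nontrivial_iff_ne_bot K).mpr hK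
  obtain ⟨R, hR, hsimp, hnc⟩ := exists_simple_quotient hperf
  haveI := hR
  haveI := hsimp
  have hmul : Nat.card K = Nat.card (K ⧸ R) * Nat.card R := by
    rw [← Subgroup.index_eq_card, R.index_mul_card]
  have hd : Nat.card K ∣ Nat.card G := card_subgroup_dvd_card K
  obtain ⟨c, hc⟩ := hd
  have hc' : Nat.card G = Nat.card (K ⧸ R) * (Nat.card R * c) := by rw [hc, hmul]; ring
  rcases Nat.lt_or_ge (Nat.card R * c) 2 with h2 | h2
  · left
    have hR0 : 0 < Nat.card R := Nat.card_pos
    have hc0 : c ≠ 0 := fun e => Nat.card_pos.ne' (by rw [hc', e, mul_zero, mul_zero])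
    have hR1 : Nat.card R = 1 := by
      have := Nat.le_mul_of_pos_right (Nat.card R) (Nat.pos_of_ne_zero hc0)
      omega
    have hc1 : c = 1 := by rw [hR1, one_mul] at h2; omega
    have hKt : K = ⊤ := eq_top_of_card_eq K (by rw [hc, hc1, mul_one])
    exact ((topEquiv.symm.trans (MulEquiv.subgroupCongr hKt.symm)).trans
      ((QuotientGroup.quotientMulEquivOfEq (Subgroup.card_eq_one.mp hR1)).trans
        QuotientGroup.quotientBot).symm).isSimpleGroup
  · have hle : 2 * Nat.card (K ⧸ R) ≤ Nat.card G := by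
      rw [hc', mul_comm 2]; exact Nat.mul_le_mul_left _ h2
    exact Or.inr ⟨K, hKn, hperf, R, hR, hsimp, hnc, simple_card_mem hnc (by omega), hmul, ⟨c, hc⟩, hle⟩

/-- A vertex does not have a normal abelian subgroup absorbing it. -/
theorem false_of_normal_abelian (R : Subgroup G) [R.Normal] (hab : ∀ a b : R, a * b = b * a) {r : ℕ}
    (hr : ¬ r ∣ R.index) (hv : r ∈ Cfsg.degreePrimes G) : False := by
  obtain ⟨-, d, ⟨χ, rfl⟩, hd⟩ := hv
  exact hr (hd.trans (CfsgLib.DegreeTools.deg_dvd_index R hab χ))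

theorem card_sylow_ne_one_of_vertex {p m : ℕ} [Fact p.Prime] (hcard : Nat.card G = p * m) (hm : ¬ p ∣ m)
    (hv : p ∈ Cfsg.degreePrimes G) : Nat.card (Sylow p G) ≠ 1 := by
  intro h
  haveI := (Nat.card_eq_one_iff_unique.mp h).1
  obtain ⟨P⟩ : Nonempty (Sylow p G) := inferInstance
  have hP : Nat.card (P : Subgroup G) = p :=
    (card_sylow_subgroup (k := 1) (by rw [pow_one]; exact hcard) hm P).trans (pow_one p)
  haveI := P.normal_of_subsingleton
  refine false_of_normal_abelian (P : Subgroup G)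
    (fun a b => (isCyclic_of_prime_card hP).isMulCommutative.is_comm.comm a b) ?_ hv
  have h1 := (P : Subgroup G).index_mul_card
  rw [hP, hcard, mul_comm p] at h1
  rwa [Nat.eq_of_mul_eq_mul_right (Fact.out : p.Prime).pos h1]

/-- Hall's congruences exclude solvability. -/
theorem not_solvable_of_hall {p m : ℕ} [Fact p.Prime] (hcard : Nat.card G = p * m) (hm : ¬ p ∣ m)
    (hv : p ∈ Cfsg.degreePrimes G)
    (key : ∀ n ∈ (m.divisors.filter (fun n => n % p = 1)).erase 1, ∃ ℓ ∈ [2, 3, 5, 7], ∃ j ∈ Finset.range 6,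
      ℓ ^ j ∣ n ∧ ¬ ℓ ^ (j + 1) ∣ n ∧ ℓ ^ j % p ≠ 1) : ¬ Group.IsSolvable G := by
  intro hs
  have hm0 : m ≠ 0 := fun e => hm (e ▸ dvd_zero p)
  have hmem := card_sylow_mem (G := G) (p := p) (k := 1) (m := m) (by rw [pow_one]; exact hcard) hm0
  obtain ⟨ℓ, hℓ, j, -, h1, h2, h3⟩ := key _ (Finset.mem_erase.mpr ⟨card_sylow_ne_one_of_vertex hcard hm hv, hmem⟩)
  have hℓp : ℓ.Prime := by
    simp only [List.mem_cons, List.not_mem_nil, or_false] at hℓ
    rcases hℓ with rfl | rfl | rfl | rfl <;> norm_num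
  have h := Cfsg.Agent.S4345.result hs p ℓ hℓp
  have hn0 : Nat.card (Sylow p G) ≠ 0 := Nat.card_pos.ne'
  have e1 := (hℓp.pow_dvd_iff_le_factorization hn0).mp h1
  have e2 : ¬ j + 1 ≤ (Nat.card (Sylow p G)).factorization ℓ := fun h' =>
    h2 ((hℓp.pow_dvd_iff_le_factorization hn0).mpr h')
  rw [show (Nat.card (Sylow p G)).factorization ℓ = j by omega, Nat.ModEq,
    Nat.one_mod_eq_one.mpr (Fact.out : p.Prime).ne_one] at h
  exact h3 h

theorem card_sylow_eq_one_of_not_dvd {p : ℕ} [Fact p.Prime] {H : Type*} [Group H] [Finite H]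
    (h : ¬ p ∣ Nat.card H) : Nat.card (Sylow p H) = 1 := by
  have hall : ∀ P : Sylow p H, (P : Subgroup H) = ⊥ := fun P => by
    obtain ⟨k, hk⟩ := P.isPGroup'.exists_card_eq
    rcases k with _ | k
    · exact Subgroup.card_eq_one.mp (hk.trans (pow_zero p))
    · exact absurd ((hk ▸ dvd_pow_self p k.succ_ne_zero).trans (card_subgroup_dvd_card _)) h
  exact Nat.card_eq_one_iff_unique.mpr ⟨⟨fun P Q => Sylow.ext ((hall P).trans (hall Q).symm)⟩, inferInstance⟩

/-- A normal subgroup of index prime to `p` has all Sylow `p`-subgroups. -/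
theorem card_sylow_eq_of_normal {p : ℕ} [Fact p.Prime] (K : Subgroup G) [K.Normal] (h : ¬ p ∣ K.index) :
    Nat.card (Sylow p G) = Nat.card (Sylow p K) ∧ ∀ P : Sylow p G, (P : Subgroup G) ≤ K := by
  have hle : ∀ P : Sylow p G, (P : Subgroup G) ≤ K := fun P x hx => by
    obtain ⟨k, hk⟩ := IsPGroup.iff_orderOf.mp P.isPGroup' ⟨x, hx⟩
    rw [← orderOf_coe] at hk
    have h1 : orderOf (x : G ⧸ K) ∣ p ^ k := hk ▸ orderOf_map_dvd (QuotientGroup.mk' K) x
    have h2 : orderOf (x : G ⧸ K) ∣ K.index := K.index_eq_card ▸ orderOf_dvd_natCard _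
    obtain ⟨i, -, hi⟩ := (Nat.dvd_prime_pow (Fact.out : p.Prime)).mp h1
    rcases i with _ | i
    · exact (QuotientGroup.eq_one_iff x).mp (orderOf_eq_one_iff.mp (hi.trans (pow_zero p)))
    · exact absurd ((hi ▸ dvd_pow_self p i.succ_ne_zero).trans h2) h
  refine ⟨?_, hle⟩
  obtain ⟨P⟩ : Nonempty (Sylow p G) := inferInstance
  rw [card_sylow_eq_quotient_mul_sup P K, card_sylow_eq_one_of_not_dvd (by rwa [← index_eq_card]), one_mul,
    sup_eq_right.mpr (hle P)]

/-- A Sylow subgroup of prime order inside the radical of a normal subgroup is normal. -/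
theorem card_sylow_eq_one_of_radical {p : ℕ} [Fact p.Prime] (K : Subgroup G) [K.Normal] (R : Subgroup K)
    [R.Normal] (hK : ¬ p ∣ K.index) (hR : ¬ p ∣ R.index) {c : ℕ} (hc : Nat.card R = p * c) (hpc : ¬ p ∣ c)
    (key : ∀ n ∈ c.divisors, n % p = 1 → n = 1) : Nat.card (Sylow p G) = 1 := by
  rw [(card_sylow_eq_of_normal K hK).1, (card_sylow_eq_of_normal R hR).1]
  obtain ⟨h1, h2⟩ := Finset.mem_filter.mp (card_sylow_mem (G := R) (p := p) (k := 1) (m := c)
    (by rw [pow_one]; exact hc) (fun e => hpc (e ▸ dvd_zero p)))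
  exact key _ h1 h2

/-- A Sylow subgroup of prime order centralises a Sylow subgroup of a normal `p'`-subgroup. -/
theorem sylow_dvd_normalizer {p r : ℕ} [Fact p.Prime] [Fact r.Prime] (K : Subgroup G) [K.Normal] (P : Sylow p G)
    (hP : Nat.card (P : Subgroup G) = p) {j m : ℕ} (hK : Nat.card K = r ^ j * m) (hr : ¬ r ∣ m) (hpm : ¬ p ∣ m)
    (key : ∀ c ∈ (r ^ j).divisors, c % p = r ^ j % p → c = r ^ j) :
    r ^ j ∣ Nat.card (normalizer ((P : Subgroup G) : Set G)) := by
  have hp : p.Prime := Fact.out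
  obtain ⟨Q⟩ : Nonempty (Sylow r K) := inferInstance
  set Q' := (Q : Subgroup K).map K.subtype with hQ'
  have hQc : Nat.card Q' = r ^ j := by
    rw [hQ', card_map_of_injective K.subtype_injective, SimpleTools.card_sylow_subgroup hK hr Q]
  have hnK : Nat.card (Sylow r K) = (normalizer (Q' : Set G)).relIndex K :=
    NT.SylowCount.card_sylow_subgroup Q rfl
  have hcover : ∀ g ∈ (⊤ : Subgroup G), ∃ k ∈ K, k⁻¹ * g ∈ normalizer (Q' : Set G) := by
    intro g _
    have htop := Sylow.normalizer_sup_eq_top Q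
    have hg : g ∈ K ⊔ normalizer (Q' : Set G) := by rw [sup_comm, hQ', htop]; exact mem_top g
    obtain ⟨k, hk, z, hz, rfl⟩ := mem_sup_of_normal_left.mp hg
    exact ⟨k, hk, by simpa using hz⟩
  have hidx : (normalizer (Q' : Set G)).index = Nat.card (Sylow r K) := by
    rw [hnK, ← relIndex_top_right]
    exact relIndex_eq_of_cover le_top hcover
  have hdm : (normalizer (Q' : Set G)).index ∣ m := by
    rw [hidx]
    obtain ⟨h1, -⟩ := Finset.mem_filter.mp (card_sylow_mem (G := K) (p := r) (k := j) (m := m) hK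
      (fun e => hr (e ▸ dvd_zero r)))
    exact (Nat.mem_divisors.mp h1).1
  have hdvd : p ∣ Nat.card (normalizer (Q' : Set G)) := by
    have h1 := (normalizer (Q' : Set G)).index_mul_card
    rcases hp.dvd_mul.mp (h1 ▸ hP ▸ card_subgroup_dvd_card (P : Subgroup G)) with h | h
    · exact absurd (h.trans hdm) hpm
    · exact h
  obtain ⟨⟨y, hy⟩, hy'⟩ := exists_prime_orderOf_dvd_card' (G := normalizer (Q' : Set G)) p hdvd
  rw [← Subgroup.orderOf_coe] at hy'
  have hPc : ∀ S : Sylow p G, Nat.card (S : Subgroup G) = p := fun S =>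
    (Nat.card_congr (S.equiv P).toEquiv).trans hP
  obtain ⟨P', hP'⟩ := TwoClass.exists_zpowers hy' hPc
  have hQy : Q' ≤ centralizer ({y} : Set G) :=
    Order2520.le_centralizer_of_normalizes hy' hy (by rw [hQc]; exact key)
  have hle : Q' ≤ normalizer ((P' : Subgroup G) : Set G) := by
    refine hQy.trans ?_
    rw [← TwoClass.centralizer_zpowers, hP']
    exact centralizer_le_normalizer _
  have he : Nat.card (normalizer ((P' : Subgroup G) : Set G)) = Nat.card (normalizer ((P : Subgroup G) : Set G)) :=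
    Nat.eq_of_mul_eq_mul_left Nat.card_pos ((card_normalizer_mul P').trans (card_normalizer_mul P).symm)
  rw [← he, ← hQc]
  exact card_dvd_of_le hle

/-- The kernel of the action on `p + 1` Sylow subgroups of prime order. -/
theorem kernel_bound {p : ℕ} [Fact p.Prime] (P : Sylow p G) (hP : Nat.card (P : Subgroup G) = p)
    (hn : Nat.card (Sylow p G) = p + 1) :
    ∃ C : Subgroup G, C.Normal ∧ C ≤ normalizer ((P : Subgroup G) : Set G) ∧ ¬ p ∣ Nat.card C ∧
      Nat.card (normalizer ((P : Subgroup G) : Set G)) ∣ p * (p - 1) * Nat.card C := by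
  classical
  haveI := Fintype.ofFinite (Sylow p G)
  have hp : p.Prime := Fact.out
  set N := normalizer ((P : Subgroup G) : Set G) with hNdef
  set φ := MulAction.toPermHom G (Sylow p G) with hφ
  have hfix : ∀ z ∈ φ.ker, ∀ Q : Sylow p G, z ∈ normalizer ((Q : Subgroup G) : Set G) := fun z hz Q =>
    Sylow.smul_eq_iff_mem_normalizer.mp (congrArg (fun σ : Equiv.Perm (Sylow p G) => σ Q) (MonoidHom.mem_ker.mp hz))
  have hPc : ∀ S : Sylow p G, Nat.card (S : Subgroup G) = p := fun S =>
    (Nat.card_congr (S.equiv P).toEquiv).trans hP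
  have hCp : ¬ p ∣ Nat.card φ.ker := by
    intro h
    obtain ⟨⟨z, hz⟩, hz'⟩ := exists_prime_orderOf_dvd_card' (G := φ.ker) p h
    rw [← Subgroup.orderOf_coe] at hz'
    have hall : ∀ Q : Sylow p G, Q = P := fun Q => Sylow.ext
      ((CosetFixed.zpowers_eq Q (hPc Q) hz' (hfix z hz Q)).symm.trans (CosetFixed.zpowers_eq P hP hz' (hfix z hz P)))
    have h1 : Nat.card (Sylow p G) = 1 :=
      Nat.card_eq_one_iff_unique.mpr ⟨⟨fun a b => (hall a).trans (hall b).symm⟩, inferInstance⟩
    have := hp.pos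
    omega
  refine ⟨φ.ker, inferInstance, fun z hz => hfix z hz P, hCp, ?_⟩
  have hker : (φ.comp N.subtype).ker = φ.ker.subgroupOf N := rfl
  have h1 := (φ.comp N.subtype).ker.index_mul_card
  rw [index_ker, hker, Nat.card_congr (subgroupOfEquivOfLe (fun z hz => hfix z hz P)).toEquiv] at h1
  rw [← h1]
  refine Nat.mul_dvd_mul_right ?_ _
  obtain ⟨Q, hQ⟩ := (P.isPGroup'.map φ).exists_le_sylow
  have hcardα : Fintype.card (Sylow p G) = p + 1 := by rw [← Nat.card_eq_fintype_card, hn]
  have hQcard : Nat.card (Q : Subgroup (Equiv.Perm (Sylow p G))) = p := by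
    obtain ⟨q, hq⟩ : ∃ q, p = q + 1 := ⟨p - 1, by have := hp.one_le; omega⟩
    refine (SimpleTools.card_sylow_subgroup (k := 1) (m := (p + 1) * q.factorial) ?_ ?_ Q).trans (pow_one p)
    · rw [Nat.card_eq_fintype_card, Fintype.card_perm, hcardα, hq, Nat.factorial_succ, Nat.factorial_succ, pow_one]
      ring
    · intro hd
      rcases hp.dvd_mul.mp hd with hd | hd
      · exact absurd (Nat.le_of_dvd (by norm_num) ((Nat.dvd_add_right dvd_rfl).mp hd))
          (by have := hp.two_le; omega)
      · rw [hp.dvd_factorial] at hd; omega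
  have hinj : ∀ x ∈ (P : Subgroup G), φ x = 1 → x = 1 := by
    intro x hx h
    have h2 := Nat.dvd_gcd ((P : Subgroup G).orderOf_dvd_natCard hx)
      (Subgroup.orderOf_dvd_natCard φ.ker (MonoidHom.mem_ker.mpr h))
    rw [hP, (hp.coprime_iff_not_dvd.mpr hCp).gcd_eq_one, Nat.dvd_one] at h2
    exact orderOf_eq_one_iff.mp h2
  have hPQ : (P : Subgroup G).map φ = Q := by
    refine eq_of_le_of_card_ge hQ ?_
    rw [hQcard]
    refine le_of_eq ?_
    have h := ((φ.comp (P : Subgroup G).subtype).ker).index_mul_card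
    have hbot : (φ.comp (P : Subgroup G).subtype).ker = ⊥ := by
      rw [eq_bot_iff]
      exact fun x hx => mem_bot.mpr (Subtype.ext (hinj x x.2 hx))
    rw [index_ker, hbot, card_bot, mul_one, MonoidHom.range_comp, range_subtype, hP] at h
    exact h.symm
  rw [← card_normalizer_perm p (Or.inr hcardα) Q]
  refine card_dvd_of_le ?_
  rw [MonoidHom.range_comp, range_subtype, hNdef]
  rintro _ ⟨x, hx, rfl⟩
  rw [mem_normalizer_iff, ← hPQ]
  intro z
  constructor
  · rintro ⟨y, hy, rfl⟩
    exact ⟨x * y * x⁻¹, (mem_normalizer_iff.mp hx y).mp hy, by simp⟩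
  · rintro ⟨y, hy, e⟩
    refine ⟨x⁻¹ * y * x, (mem_normalizer_iff.mp hx (x⁻¹ * y * x)).mpr (by
      rw [show x * (x⁻¹ * y * x) * x⁻¹ = y by group]; exact hy), ?_⟩
    rw [map_mul, map_mul, map_inv, e]
    group

/-- A normal subgroup not containing `K` meets it in the radical. -/
theorem inf_le_radical (K : Subgroup G) (hperf : commutator K = ⊤) (R : Subgroup K) [R.Normal]
    [IsSimpleGroup (K ⧸ R)] [Group.IsSolvable R] (C : Subgroup G) [C.Normal] (hKC : ¬ K ≤ C) :
    C.subgroupOf K ≤ R := by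
  set C' := C.subgroupOf K
  rcases (Subgroup.Normal.map (inferInstance : C'.Normal) (QuotientGroup.mk' R)
    (QuotientGroup.mk'_surjective R)).eq_bot_or_eq_top with h | h
  · rwa [Subgroup.map_eq_bot_iff, QuotientGroup.ker_mk'] at h
  · exfalso
    have hsup : C' ⊔ R = ⊤ := by
      rw [← QuotientGroup.ker_mk' R, ← comap_map_eq, h, comap_top]
    have hsurj : Function.Surjective ((QuotientGroup.mk' C').comp R.subtype) := by
      intro z
      obtain ⟨g, rfl⟩ := QuotientGroup.mk'_surjective C' z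
      obtain ⟨a, ha, b, hb, rfl⟩ := mem_sup_of_normal_left.mp (hsup ▸ mem_top g : g ∈ C' ⊔ R)
      refine ⟨⟨b, hb⟩, ?_⟩
      simp [(QuotientGroup.eq_one_iff a).mpr ha]
    haveI : Group.IsSolvable (K ⧸ C') := solvable_of_surjective hsurj
    have hC't : C' = ⊤ := by
      by_contra hne
      haveI : Nontrivial (K ⧸ C') := QuotientGroup.nontrivial_iff.2 hne
      refine (Group.IsSolvable.commutator_lt_top_of_nontrivial (K ⧸ C')).ne ?_
      rw [_root_.commutator_def, ← Subgroup.map_top_of_surjective _ (QuotientGroup.mk'_surjective C'),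
        ← Subgroup.map_commutator, ← _root_.commutator_def, hperf]
    exact hKC (subgroupOf_eq_top.mp hC't)

/-- The product formula with the radical. -/
theorem mul_dvd_of_radical (K : Subgroup G) (hperf : commutator K = ⊤) (R : Subgroup K) [R.Normal]
    [IsSimpleGroup (K ⧸ R)] [Group.IsSolvable R] (C : Subgroup G) [C.Normal] (hKC : ¬ K ≤ C) :
    Nat.card C * Nat.card (K ⧸ R) ∣ Nat.card G := by
  have hle := card_dvd_of_le (inf_le_radical K hperf R C hKC)
  have hcard : Nat.card (C.subgroupOf K) = Nat.card (C ⊓ K : Subgroup G) := by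
    rw [← inf_subgroupOf_right, Nat.card_congr (subgroupOfEquivOfLe inf_le_right).toEquiv]
  rw [hcard] at hle
  obtain ⟨i, hi⟩ := hle
  have h := CfsgLib.Solvable.Basic.card_sup_mul C K
  obtain ⟨j, hj⟩ := card_subgroup_dvd_card (K ⊔ C : Subgroup G)
  have hKc : Nat.card K = Nat.card (K ⧸ R) * Nat.card R := by
    rw [← Subgroup.index_eq_card, R.index_mul_card]
  refine ⟨i * j, ?_⟩
  refine Nat.eq_of_mul_eq_mul_right (Nat.card_pos : 0 < Nat.card (C ⊓ K : Subgroup G)) ?_
  rw [hj, mul_right_comm, h, hKc, hi]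
  ring

/-- The residual solvable case: a normal abelian Sylow `r`-subgroup. -/
theorem exists_normal_abelian {p r s : ℕ} [Fact p.Prime] (hr : r.Prime) (hs : s.Prime) (hpr : p ≠ r) (hps : p ≠ s)
    (hrs : r ≠ s) {b : ℕ} :
    ∀ (a : ℕ) {G : Type*} [Group G] [Finite G], Group.IsSolvable G → Nat.card G = p * (r ^ b * s ^ a) →
      Nat.card (Sylow p G) = r ^ b → (∀ c ∈ (r ^ b).divisors, c % p = 1 → c = 1 ∨ c = r ^ b) →
      (∀ i ∈ Finset.range (a + 1), ∀ c ∈ (s ^ i).divisors, c % p = s ^ i % p → c = s ^ i) →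
      ∃ R : Subgroup G, R.Normal ∧ Nat.card R = r ^ b ∧ ∀ u v : R, u * v = v * u := by
  intro a
  induction a using Nat.strong_induction_on with
  | _ a ih =>
    intro G _ _ hsol hcard hn hkr hks
    have hp : p.Prime := Fact.out
    by_cases hb : r ^ b = 1
    · exact ⟨⊥, inferInstance, by rw [card_bot, hb], fun u v => Subsingleton.elim _ _⟩
    have hnd : ¬ p ∣ r ^ b * s ^ a := fun h => by
      rcases hp.dvd_mul.mp h with h | h
      · exact hpr ((Nat.prime_dvd_prime_iff_eq hp hr).mp (hp.dvd_of_dvd_pow h))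
      · exact hps ((Nat.prime_dvd_prime_iff_eq hp hs).mp (hp.dvd_of_dvd_pow h))
    obtain ⟨P⟩ : Nonempty (Sylow p G) := inferInstance
    have hP : Nat.card (P : Subgroup G) = p :=
      (SimpleTools.card_sylow_subgroup (k := 1) (by rw [pow_one]; exact hcard) hnd P).trans (pow_one p)
    have hNP : Nat.card (normalizer ((P : Subgroup G) : Set G)) = p * s ^ a := by
      have h := card_normalizer_mul P
      rw [hn, hcard] at h
      refine Nat.eq_of_mul_eq_mul_left (pow_pos hr.pos b) (h.trans ?_)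
      ring
    haveI := hsol
    have : Nontrivial G := Finite.one_lt_card_iff_nontrivial.mp (by
      rw [hcard]
      exact hp.one_lt.trans_le (Nat.le_mul_of_pos_right p (Nat.mul_pos (pow_pos hr.pos b) (pow_pos hs.pos a))))
    obtain ⟨A, q, hq, hAn, hA1, -, hAc, hAp, -⟩ :=
      CfsgLib.Solvable.Basic.exists_minimal_normal_pgroup (H := (⊤ : Subgroup G)) top_ne_bot
    haveI := hAn
    haveI : Fact q.Prime := ⟨hq⟩
    obtain ⟨j, hj⟩ := hAp.exists_card_eq
    have hj0 : j ≠ 0 := fun e => hA1 (Subgroup.card_eq_one.mp (by rw [hj, e, pow_zero]))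
    have hAd : q ^ j ∣ p * (r ^ b * s ^ a) := hcard ▸ hj ▸ card_subgroup_dvd_card A
    have hq3 : q = p ∨ q = r ∨ q = s := by
      rcases hq.dvd_mul.mp ((dvd_pow_self q hj0).trans hAd) with h | h
      · exact Or.inl ((Nat.prime_dvd_prime_iff_eq hq hp).mp h)
      rcases hq.dvd_mul.mp h with h | h
      · exact Or.inr (Or.inl ((Nat.prime_dvd_prime_iff_eq hq hr).mp (hq.dvd_of_dvd_pow h)))
      · exact Or.inr (Or.inr ((Nat.prime_dvd_prime_iff_eq hq hs).mp (hq.dvd_of_dvd_pow h)))
    rcases hq3 with rfl | rfl | rfl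
    · -- a normal Sylow `p`-subgroup
      exfalso
      have hle : A ≤ (P : Subgroup G) := hAp.le_sylow_of_normal P
      have hAP : A = (P : Subgroup G) :=
        eq_of_le_of_card_ge hle (by rw [hP, hj]; exact Nat.le_self_pow hj0 _)
      haveI : (P : Subgroup G).Normal := hAP ▸ hAn
      have : Subsingleton (Sylow q G) := (Sylow.unique_of_normal P inferInstance).instSubsingleton
      rw [Nat.card_eq_one_iff_unique.mpr ⟨this, ⟨P⟩⟩] at hn
      exact hb hn.symm
    · -- the `r`-part: all of it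
      refine ⟨A, hAn, ?_, fun u v => hAc.is_comm.comm u v⟩
      have hd : q ^ j ∣ q ^ b := by
        have h1 : q ^ j ∣ q ^ b * s ^ a :=
          (((Nat.coprime_primes hq hp).mpr (Ne.symm hpr)).pow_left j).dvd_of_dvd_mul_left hAd
        exact (((Nat.coprime_primes hq hs).mpr hrs).pow j a).dvd_of_dvd_mul_right h1
      obtain ⟨y, hyP, hy⟩ : ∃ y ∈ (P : Subgroup G), orderOf y = p := by
        obtain ⟨⟨y, hy⟩, h⟩ := exists_prime_orderOf_dvd_card' (G := (P : Subgroup G)) p (by rw [hP])
        exact ⟨y, hy, by rwa [← Subgroup.orderOf_coe] at h⟩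
      by_contra hne
      have hmod := Order2520.card_fixed_modEq (p := p) A (zpowers y)
        (IsPGroup.of_card (n := 1) (by rw [Nat.card_zpowers, hy, pow_one]))
        (zpowers_le.mpr (normalizer_eq_top_iff.mpr hAn ▸ mem_top y))
      have hzP : zpowers y = (P : Subgroup G) := eq_of_le_of_card_ge (zpowers_le.mpr hyP) (by
        rw [hP, Nat.card_zpowers, hy])
      rw [hzP] at hmod
      have hdc : Nat.card ↥(A ⊓ centralizer ((P : Subgroup G) : Set G)) = 1 := by
        have h1 : Nat.card ↥(A ⊓ centralizer ((P : Subgroup G) : Set G)) ∣ p * s ^ a :=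
          hNP ▸ card_dvd_of_le (inf_le_right.trans (centralizer_le_normalizer _))
        have h2 : Nat.card ↥(A ⊓ centralizer ((P : Subgroup G) : Set G)) ∣ q ^ j := hj ▸ card_dvd_of_le inf_le_left
        have hcop : Nat.Coprime (q ^ j) (p * s ^ a) :=
          (((Nat.coprime_primes hq hp).mpr (Ne.symm hpr)).pow_left j).mul_right
            (((Nat.coprime_primes hq hs).mpr hrs).pow j a)
        exact Nat.dvd_one.mp (hcop ▸ Nat.dvd_gcd h2 h1)
      rw [hdc, hj, Nat.one_mod_eq_one.mpr hp.ne_one] at hmod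
      rcases hkr _ (Nat.mem_divisors.mpr ⟨hd, (pow_pos hr.pos b).ne'⟩) hmod.symm with h | h
      · exact hq.ne_one ((Nat.pow_eq_one.mp h).resolve_right hj0)
      · exact hne (hj.trans h)
    · -- the `s`-part: pass to the quotient
      have hja : j ≤ a := (Nat.pow_dvd_pow_iff_le_right hq.one_lt).mp (by
        have h1 : q ^ j ∣ r ^ b * q ^ a :=
          (((Nat.coprime_primes hq hp).mpr (Ne.symm hps)).pow_left j).dvd_of_dvd_mul_left hAd
        exact (((Nat.coprime_primes hq hr).mpr (Ne.symm hrs)).pow j b).dvd_of_dvd_mul_left h1)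
      have hcent : ∀ Q : Sylow p G, A ≤ centralizer ((Q : Subgroup G) : Set G) := by
        intro Q
        have hQ : Nat.card (Q : Subgroup G) = p := (Nat.card_congr (Q.equiv P).toEquiv).trans hP
        obtain ⟨⟨y, hyQ⟩, hy⟩ := exists_prime_orderOf_dvd_card' (G := (Q : Subgroup G)) p (by rw [hQ])
        rw [← Subgroup.orderOf_coe] at hy
        have hzQ : zpowers y = (Q : Subgroup G) := eq_of_le_of_card_ge (zpowers_le.mpr hyQ) (by
          rw [hQ, Nat.card_zpowers, hy])
        rw [← hzQ, TwoClass.centralizer_zpowers]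
        exact Order2520.le_centralizer_of_normalizes hy (normalizer_eq_top_iff.mpr hAn ▸ mem_top y)
          (by rw [hj]; exact hks j (Finset.mem_range.mpr (by omega)))
      set L := (P : Subgroup G) ⊔ A
      have hLN : Nat.card (Sylow p L) = 1 := by
        rw [card_sylow_of_le P le_sup_left, relIndex_eq_one]
        exact sup_le le_normalizer ((hcent P).trans (centralizer_le_normalizer _))
      have hnq : Nat.card (Sylow p (G ⧸ A)) = r ^ b := by
        have h := card_sylow_eq_quotient_mul_sup P A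
        rw [hLN, mul_one, hn] at h
        exact h.symm
      have hcq : Nat.card (G ⧸ A) = p * (r ^ b * q ^ (a - j)) := by
        have h := A.index_mul_card
        rw [hj, hcard, index_eq_card, show q ^ a = q ^ (a - j) * q ^ j by rw [← pow_add]; congr 1; omega] at h
        refine Nat.eq_of_mul_eq_mul_right (pow_pos hq.pos j) (h.trans ?_)
        ring
      obtain ⟨M, hMn, hMc, hMab⟩ := ih (a - j) (by omega) (G := G ⧸ A) inferInstance hcq hnq hkr
        (fun i hi => hks i (Finset.mem_range.mpr (by have := Finset.mem_range.mp hi; omega)))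
      haveI := hMn
      set M' := M.comap (QuotientGroup.mk' A)
      have hM'c : Nat.card M' = r ^ b * q ^ j := by
        rw [CfsgLib.Solvable.Basic.card_comap_mk, hMc, hj]
      haveI : Fact r.Prime := ⟨hr⟩
      obtain ⟨R⟩ : Nonempty (Sylow r M') := inferInstance
      have hndr : ¬ r ∣ q ^ j := fun h => hrs ((Nat.prime_dvd_prime_iff_eq hr hq).mp (hr.dvd_of_dvd_pow h))
      have hRc : Nat.card (R : Subgroup M') = r ^ b := SimpleTools.card_sylow_subgroup hM'c hndr R
      set R' := (R : Subgroup M').map M'.subtype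
      -- `A` is central in `M'`
      have hCA : ∀ x ∈ R', x ∈ centralizer (A : Set G) := by
        intro x hx
        have hCp : r ^ b ∣ Nat.card (centralizer (A : Set G)) := by
          haveI : (centralizer (A : Set G)).Normal := inferInstance
          have hall : ∀ Q : Sylow p G, (Q : Subgroup G) ≤ centralizer (A : Set G) := fun Q => by
            intro z hz
            exact mem_centralizer_iff.mpr fun a ha => (mem_centralizer_iff.mp (hcent Q ha) z hz).symm
          have h := card_sylow_eq_quotient_mul_sup P (centralizer (A : Set G))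
          rw [hn, sup_eq_right.mpr (hall P),
            card_sylow_eq_one_of_not_dvd (H := G ⧸ centralizer (A : Set G)), one_mul] at h
          · obtain ⟨h1, -⟩ := Finset.mem_filter.mp (card_sylow_mem (G := centralizer (A : Set G)) (p := p) (k := 0)
              (m := Nat.card (centralizer (A : Set G))) (by simp) Nat.card_pos.ne')
            exact h ▸ (Nat.mem_divisors.mp h1).1
          · intro h'
            have h1 := (centralizer (A : Set G)).index_mul_card
            rw [← index_eq_card] at h'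
            have h2 : p ∣ Nat.card (centralizer (A : Set G)) := hP ▸ card_dvd_of_le (hall P)
            have h3 := Nat.mul_dvd_mul h' h2
            rw [h1, hcard] at h3
            exact hnd (Nat.dvd_of_mul_dvd_mul_left hp.pos h3)
        have hxr : ∃ i, orderOf x = r ^ i := by
          obtain ⟨⟨w, hw⟩, hw', rfl⟩ := hx
          obtain ⟨i, hi⟩ := IsPGroup.iff_orderOf.mp R.isPGroup' ⟨_, hw'⟩
          exact ⟨i, by rw [← hi, ← orderOf_coe, ← orderOf_coe]; rfl⟩
        obtain ⟨i, hi⟩ := hxr
        rw [← QuotientGroup.eq_one_iff (N := centralizer (A : Set G)), ← orderOf_eq_one_iff]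
        have h1 : orderOf (x : G ⧸ centralizer (A : Set G)) ∣ r ^ i :=
          hi ▸ orderOf_map_dvd (QuotientGroup.mk' _) x
        have h2 : orderOf (x : G ⧸ centralizer (A : Set G)) ∣ p * q ^ a := by
          refine (_root_.orderOf_dvd_natCard _).trans ?_
          obtain ⟨c, hc⟩ := hCp
          have h := (centralizer (A : Set G)).index_mul_card
          rw [hc, hcard, index_eq_card] at h
          exact ⟨c, Nat.eq_of_mul_eq_mul_left (pow_pos hr.pos b) (by linarith)⟩
        have hcop : Nat.Coprime (r ^ i) (p * q ^ a) :=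
          (((Nat.coprime_primes hr hp).mpr (Ne.symm hpr)).pow_left i).mul_right
            (((Nat.coprime_primes hr hq).mpr hrs).pow i a)
        exact Nat.dvd_one.mp (hcop ▸ Nat.dvd_gcd h1 h2)
      have hRA : ∀ x ∈ R', ∀ a ∈ A, a * x = x * a := fun x hx a ha => mem_centralizer_iff.mp (hCA x hx) a ha
      have hAM : A ≤ M' := QuotientGroup.le_comap_mk' A M
      have hM'eq : M' = R' ⊔ A := by
        refine (eq_of_le_of_card_ge (sup_le (map_subtype_le _) hAM) ?_).symm
        have hd1 := card_dvd_of_le (le_sup_left : R' ≤ R' ⊔ A)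
        have hd2 := card_dvd_of_le (le_sup_right : A ≤ R' ⊔ A)
        rw [card_map_of_injective M'.subtype_injective, hRc] at hd1
        rw [hj] at hd2
        rw [hM'c]
        exact Nat.le_of_dvd Nat.card_pos (Nat.Coprime.mul_dvd_of_dvd_of_dvd
          (((Nat.coprime_primes hr hq).mpr hrs).pow b j) hd1 hd2)
      haveI hRn : (R : Subgroup M').Normal := ⟨fun z hz g => by
        have hg : (g : G) ∈ R' ⊔ A := hM'eq ▸ g.2
        obtain ⟨u, hu, v, hv, he⟩ := mem_sup_of_normal_right.mp hg
        obtain ⟨u', hu', rfl⟩ := hu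
        have hc : (v : G) * z * (v : G)⁻¹ = z := by
          rw [show (v : G) * (z : G) = (z : G) * v from hRA _ ⟨z, hz, rfl⟩ v hv, mul_inv_cancel_right]
        have heq : g * z * g⁻¹ = u' * z * u'⁻¹ := Subtype.ext (by
          simp only [coe_mul, coe_inv]
          rw [← he, mul_inv_rev]
          calc _ = (M'.subtype u') * ((v : G) * z * (v : G)⁻¹) * (M'.subtype u')⁻¹ := by group
            _ = _ := by rw [hc]; rfl)
        rw [heq]
        exact mul_mem (mul_mem hu' hz) (inv_mem hu')⟩
      haveI : (R : Subgroup M').Characteristic := Sylow.characteristic_of_normal R hRn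
      haveI : M'.Normal := inferInstance
      have hR'c : Nat.card R' = r ^ b := by rw [card_map_of_injective M'.subtype_injective, hRc]
      refine ⟨R', ConjAct.normal_of_characteristic_of_normal, hR'c, fun u v => Subtype.ext ?_⟩
      have hmk : ∀ w : R', QuotientGroup.mk' A (w : G) ∈ M := fun w =>
        (show (w : G) ∈ M' from map_subtype_le _ w.2)
      have hcomm := congrArg Subtype.val (hMab ⟨_, hmk u⟩ ⟨_, hmk v⟩)
      have hmem : ((u : G) * v) * ((v : G) * u)⁻¹ ∈ A ⊓ R' := by
        refine ⟨(QuotientGroup.eq_one_iff _).mp ?_, R'.mul_mem (R'.mul_mem u.2 v.2) (R'.inv_mem (R'.mul_mem v.2 u.2))⟩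
        change (QuotientGroup.mk' A (u : G)) * QuotientGroup.mk' A (v : G) = _ at hcomm
        show QuotientGroup.mk' A (((u : G) * v) * ((v : G) * u)⁻¹) = 1
        rw [map_mul, map_mul, map_inv, hcomm, map_mul]
        exact mul_inv_cancel _
      have hbot : A ⊓ R' = ⊥ := by
        refine Subgroup.inf_eq_bot_of_coprime ?_
        rw [hj, hR'c]
        exact ((Nat.coprime_primes hq hr).mpr (Ne.symm hrs)).pow j b
      rw [hbot, mem_bot, mul_inv_eq_one] at hmem
      exact hmem

end CfsgLib.SmallGroups.DegreeGraphSmall
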